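/-
Factorizations `G = T H` with `T` an abelian 2-group and `H` of odd order (owner: helper90).

Main results: `Fac`, `Fac.restrict`, `Fac.quotient`, `Fac.conj_right`, `isCyclic_of_unique_involution`.
-/
import Cfsg.Agent.EqLemmas
import Cfsg.Agent.Lib.Coprime.Basic
import Cfsg.Agent.Lib.Cores.Basic
import Mathlib.GroupTheory.Sylow

set_option autoImplicit false
set_option linter.style.haveILetI false

open Subgroup

namespace Cfsg.Agent.AbelianTwoFactor

universe u

variable {G : Type u} [Group G]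

/-- `G = T H` with `T` an abelian 2-group and `H` of odd order. -/
structure Fac (G : Type u) [Group G] (T H : Subgroup G) : Prop where
  comm : ∀ a ∈ T, ∀ b ∈ T, a * b = b * a
  isP : IsPGroup 2 T
  odd : Odd (Nat.card H)
  decomp : ∀ g : G, ∃ t ∈ T, t⁻¹ * g ∈ H

theorem isPGroup_of_comap {T : Subgroup G} (hT : IsPGroup 2 T) (X : Subgroup G) :
    IsPGroup 2 (T.subgroupOf X) :=
  hT.comap_subtype

theorem coprime_of_isPGroup [Finite G] {A B : Subgroup G} (hA : IsPGroup 2 A) (hB : Odd (Nat.card B)) :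
    (Nat.card A).Coprime (Nat.card B) := by
  haveI := Fact.mk Nat.prime_two
  obtain ⟨k, hk⟩ := IsPGroup.iff_card.1 hA
  rw [hk]
  exact (Nat.coprime_two_left.2 hB).pow_left k

namespace Fac

variable {T H : Subgroup G}

theorem eq_one [Finite G] (h : Fac G T H) {x : G} (hT : x ∈ T) (hH : x ∈ H) : x = 1 :=
  Coprime.eq_one_of_mem_of_mem (coprime_of_isPGroup h.isP h.odd) hT hH

theorem unique [Finite G] (h : Fac G T H) {g s t : G} (hs : s ∈ T) (hsH : s⁻¹ * g ∈ H) (ht : t ∈ T)
    (htH : t⁻¹ * g ∈ H) : s = t := by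
  have h1 : t⁻¹ * s ∈ H := by
    have := H.mul_mem htH (H.inv_mem hsH)
    rwa [show t⁻¹ * g * (s⁻¹ * g)⁻¹ = t⁻¹ * s by group] at this
  exact (inv_mul_eq_one.1 (h.eq_one (T.mul_mem (T.inv_mem ht) hs) h1)).symm

theorem card_mul [Finite G] (h : Fac G T H) : Nat.card T * Nat.card H = Nat.card G := by
  rw [← Nat.card_prod]
  refine Nat.card_eq_of_bijective (fun c : T × H => (c.1 : G) * c.2) ⟨fun c d hcd => ?_, fun g => ?_⟩
  · have h1 : (d.1 : G) = c.1 := h.unique (g := (c.1 : G) * c.2) d.1.2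
      (by simp only at hcd; rw [hcd, inv_mul_cancel_left]; exact d.2.2) c.1.2
      (by rw [inv_mul_cancel_left]; exact c.2.2)
    refine Prod.ext (Subtype.ext h1.symm) (Subtype.ext ?_)
    simp only at hcd
    rw [h1] at hcd
    exact mul_left_cancel hcd
  · obtain ⟨t, ht, hth⟩ := h.decomp g
    exact ⟨(⟨t, ht⟩, ⟨_, hth⟩), mul_inv_cancel_left t g⟩

theorem index_eq [Finite G] (h : Fac G T H) : T.index = Nat.card H :=
  Nat.eq_of_mul_eq_mul_left Nat.card_pos (T.card_mul_index.trans h.card_mul.symm)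

/-- A subgroup containing the `T`-parts of its elements inherits the factorization. -/
theorem restrict [Finite G] (h : Fac G T H) {X : Subgroup G}
    (hX : ∀ x ∈ X, ∀ t ∈ T, t⁻¹ * x ∈ H → t ∈ X) : Fac X (T.subgroupOf X) (H.subgroupOf X) where
  comm := fun a ha b hb => Subtype.ext (h.comm a (mem_subgroupOf.1 ha) b (mem_subgroupOf.1 hb))
  isP := isPGroup_of_comap h.isP X
  odd := h.odd.of_dvd_nat (by
    rw [← Subgroup.card_map_of_injective (K := H.subgroupOf X) X.subtype_injective]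
    exact Subgroup.card_dvd_of_le (Subgroup.map_comap_le _ _))
  decomp := fun x => by
    obtain ⟨t, ht, hth⟩ := h.decomp x
    exact ⟨⟨t, hX x x.2 t ht hth⟩, mem_subgroupOf.2 ht, mem_subgroupOf.2 hth⟩

theorem restrict_of_le [Finite G] (h : Fac G T H) {X : Subgroup G} (hT : T ≤ X) :
    Fac X (T.subgroupOf X) (H.subgroupOf X) :=
  h.restrict fun _ _ _ ht _ => hT ht

theorem quotient [Finite G] (h : Fac G T H) (N : Subgroup G) [N.Normal] :
    Fac (G ⧸ N) (T.map (QuotientGroup.mk' N)) (H.map (QuotientGroup.mk' N)) where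
  comm := by
    rintro _ ⟨a, ha, rfl⟩ _ ⟨b, hb, rfl⟩
    rw [← map_mul, h.comm a ha b hb, map_mul]
  isP := h.isP.map _
  odd := h.odd.of_dvd_nat (Subgroup.card_map_dvd _ _)
  decomp := fun q => by
    obtain ⟨g, rfl⟩ := QuotientGroup.mk'_surjective N q
    obtain ⟨t, ht, hth⟩ := h.decomp g
    exact ⟨_, ⟨t, ht, rfl⟩, ⟨_, hth, by rw [map_mul, map_inv]⟩⟩

theorem mem_of_mem_normal [Finite G] (h : Fac G T H) (N : Subgroup G) [N.Normal] {x t : G}
    (hx : x ∈ N) (ht : t ∈ T) (hth : t⁻¹ * x ∈ H) : t ∈ N := by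
  rw [← QuotientGroup.eq_one_iff]
  have h1 : (QuotientGroup.mk' N) (t⁻¹ * x) = ((QuotientGroup.mk' N) t)⁻¹ := by
    rw [map_mul, map_inv, show (QuotientGroup.mk' N) x = 1 from (QuotientGroup.eq_one_iff x).2 hx,
      mul_one]
  have h2 : (QuotientGroup.mk' N) t ∈ H.map (QuotientGroup.mk' N) := by
    rw [← inv_mem_iff, ← h1]; exact ⟨_, hth, rfl⟩
  exact (h.quotient N).eq_one ⟨t, ht, rfl⟩ h2

theorem restrict_normal [Finite G] (h : Fac G T H) (N : Subgroup G) [N.Normal] :
    Fac N (T.subgroupOf N) (H.subgroupOf N) :=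
  h.restrict fun _ hx _ ht hth => h.mem_of_mem_normal N hx ht hth

theorem normal_odd_le [Finite G] (h : Fac G T H) {W : Subgroup G} [W.Normal] (hW : Odd (Nat.card W)) :
    W ≤ H := by
  intro w hw
  obtain ⟨t, ht, hth⟩ := h.decomp w
  have h1 : t = 1 := Coprime.eq_one_of_mem_of_mem (coprime_of_isPGroup h.isP hW) ht
    (h.mem_of_mem_normal W hw ht hth)
  rwa [h1, inv_one, one_mul] at hth

theorem normal_two_le [Finite G] (h : Fac G T H) {W : Subgroup G} [W.Normal] (hW : IsPGroup 2 W) :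
    W ≤ T := by
  intro w hw
  obtain ⟨t, ht, hth⟩ := h.decomp w
  have h1 : t⁻¹ * w = 1 := Coprime.eq_one_of_mem_of_mem (coprime_of_isPGroup hW h.odd)
    (W.mul_mem (W.inv_mem (h.mem_of_mem_normal W hw ht hth)) hw) hth
  rwa [← inv_mul_eq_one.1 h1]

/-- Replacing `H` by a conjugate under `T`. -/
theorem conj_right [Finite G] (h : Fac G T H) {s : G} (hs : s ∈ T) :
    Fac G T (H.map (MulAut.conj s).toMonoidHom) where
  comm := h.comm
  isP := h.isP
  odd := by rw [Subgroup.card_map_of_injective (MulAut.conj s).injective]; exact h.odd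
  decomp := fun g => by
    obtain ⟨t, ht, hth⟩ := h.decomp (g * s)
    refine ⟨t * s⁻¹, T.mul_mem ht (T.inv_mem hs), t⁻¹ * (g * s), hth, ?_⟩
    simp only [MulEquiv.coe_toMonoidHom, MulAut.conj_apply]
    group

theorem not_dvd_index [Finite G] (h : Fac G T H) : ¬ 2 ∣ T.index := by
  rw [h.index_eq]
  exact fun hd => Nat.not_even_iff_odd.2 h.odd (even_iff_two_dvd.2 hd)

/-- A 2-element normalizing `T` lies in `T`. -/
theorem mem_of_normalize [Finite G] (h : Fac G T H) {x : G} (hx : x ∈ normalizer (T : Set G))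
    (hp : IsPGroup 2 (zpowers x)) : x ∈ T := by
  haveI := Fact.mk Nat.prime_two
  have h1 : IsPGroup 2 (zpowers x ⊔ T : Subgroup G) :=
    hp.to_sup_of_normal_right' h.isP (zpowers_le.2 hx)
  have h2 : zpowers x ⊔ T = T := (h.isP.toSylow h.not_dvd_index).3 h1 le_sup_right
  exact h2 ▸ mem_sup_left (mem_zpowers x)

end Fac

theorem isPGroup_zpowers_of_sq {x : G} (hx : x * x = 1) : IsPGroup 2 (zpowers x) := by
  rintro ⟨y, k, rfl⟩
  refine ⟨1, Subtype.ext ?_⟩
  show (x ^ k) ^ (2 ^ 1) = 1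
  rw [pow_one, ← zpow_natCast, ← zpow_mul, mul_comm, zpow_mul, zpow_natCast, pow_two, hx, one_zpow]

theorem isPGroup_zpowers_of_mem {T : Subgroup G} (hT : IsPGroup 2 T) {x : G} (hx : x ∈ T) :
    IsPGroup 2 (zpowers x) :=
  hT.to_le (zpowers_le.2 hx)

theorem exists_involution_mem [Finite G] {T : Subgroup G} (hT : IsPGroup 2 T) (h : T ≠ ⊥) :
    ∃ t ∈ T, orderOf t = 2 := by
  haveI := Fact.mk Nat.prime_two
  obtain ⟨k, hk⟩ := IsPGroup.iff_card.1 hT
  rcases Nat.eq_zero_or_pos k with rfl | hk0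
  · exact absurd (Subgroup.card_eq_one.1 (by rw [hk, pow_zero])) h
  obtain ⟨t, ht⟩ := exists_prime_orderOf_dvd_card' (G := T) 2 (hk ▸ dvd_pow_self 2 hk0.ne')
  exact ⟨t, t.2, by rw [Subgroup.orderOf_coe, ht]⟩

/-- An abelian 2-group with only one involution is cyclic. -/
theorem isCyclic_of_unique_involution {A : Type*} [Group A] [Finite A] (hA : IsPGroup 2 A)
    (hcomm : ∀ a b : A, a * b = b * a) {v : A} (h : ∀ a : A, a * a = 1 → a = 1 ∨ a = v) :
    IsCyclic A := by
  haveI := Fact.mk Nat.prime_two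
  obtain ⟨x, hx⟩ := Finite.exists_max (fun a : A => orderOf a)
  refine ⟨⟨x, fun y => ?_⟩⟩
  suffices key : ∀ (k : ℕ) (y : A), orderOf y = 2 ^ k → y ∈ zpowers x by
    obtain ⟨k, hk⟩ := IsPGroup.iff_orderOf.1 hA y
    exact key k y hk
  intro k
  induction k with
  | zero =>
    intro y hy
    rw [pow_zero, orderOf_eq_one_iff] at hy
    exact hy ▸ one_mem _
  | succ k ih =>
    intro y hy
    have hy2 : orderOf (y * y) = 2 ^ k := by
      rw [← pow_two, orderOf_pow' y two_ne_zero, hy, Nat.gcd_eq_right (dvd_pow_self 2 k.succ_ne_zero),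
        pow_succ, Nat.mul_div_cancel _ two_pos]
    obtain ⟨m, hm⟩ := mem_powers_iff_mem_zpowers.2 (ih _ hy2)
    simp only at hm
    have hsq : ∀ i : ℕ, m = i + i → y ∈ zpowers x := by
      rintro i rfl
      have hcm : Commute y (x ^ i)⁻¹ := hcomm _ _
      have h1 : y * (x ^ i)⁻¹ * (y * (x ^ i)⁻¹) = 1 := by
        rw [hcm.symm.mul_mul_mul_comm, ← hm, ← mul_inv_rev, ← pow_add, mul_inv_cancel]
      have hv : v ∈ zpowers x := by
        by_cases hx1 : x = 1
        · have := hx v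
          rw [hx1, orderOf_one] at this
          rw [orderOf_eq_one_iff.1 (le_antisymm this (orderOf_pos v))]
          exact one_mem _
        obtain ⟨j, hj⟩ := IsPGroup.iff_orderOf.1 hA x
        obtain ⟨j, rfl⟩ : ∃ j', j = j' + 1 := Nat.exists_eq_succ_of_ne_zero (fun e => hx1 (by
          rw [← orderOf_eq_one_iff, hj, e, pow_zero]))
        have hz : x ^ 2 ^ j * x ^ 2 ^ j = 1 := by
          rw [← pow_add, ← mul_two, ← pow_succ, ← hj, pow_orderOf_eq_one]
        have hz1 : x ^ 2 ^ j ≠ 1 := pow_ne_one_of_lt_orderOf (by positivity) (by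
          rw [hj]; exact Nat.pow_lt_pow_right one_lt_two (Nat.lt_succ_self j))
        exact (h _ hz).resolve_left hz1 ▸ pow_mem (mem_zpowers x) _
      rcases h _ h1 with e | e
      · rw [mul_inv_eq_one.1 e]; exact pow_mem (mem_zpowers x) i
      · rw [mul_inv_eq_iff_eq_mul.1 e]; exact mul_mem hv (pow_mem (mem_zpowers x) i)
    rcases Nat.even_or_odd m with ⟨i, hi⟩ | hodd
    · exact hsq i hi
    · exfalso
      obtain ⟨j, hj⟩ := IsPGroup.iff_orderOf.1 hA x
      have h1 : orderOf (x ^ m) = orderOf x :=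
        Nat.Coprime.orderOf_pow (by rw [hj]; exact (Nat.coprime_two_left.2 hodd).pow_left j)
      have h2 := hx y
      rw [← h1, hm, hy2, hy] at h2
      exact absurd h2 (not_le.2 (Nat.pow_lt_pow_right one_lt_two (Nat.lt_succ_self k)))

end Cfsg.Agent.AbelianTwoFactor
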