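/-
Moving the odd factor over an odd subgroup normalizing the 2-factor (owner: helper90).
-/
import Cfsg.Agent.Lib.AbelianTwoFactor.Basic

set_option autoImplicit false
set_option linter.style.haveILetI false

open Subgroup

namespace Cfsg.Agent.AbelianTwoFactor

universe u

variable {G : Type u} [Group G]

/-- The odd factor can be conjugated over an odd subgroup normalizing the 2-factor. -/
theorem Fac.exists_fac_ge [Finite G] {T H : Subgroup G} (h : Fac G T H) {A : Subgroup G}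
    (hAodd : Odd (Nat.card A)) (hAN : A ≤ normalizer (T : Set G)) :
    ∃ H', Fac G T H' ∧ A ≤ H' := by
  classical
  have hcomm := h.comm
  have hconjT : ∀ g ∈ normalizer (T : Set G), ∀ t ∈ T, g * t * g⁻¹ ∈ T := fun g hg t ht =>
    (mem_normalizer_iff.1 hg t).1 ht
  letI : CommGroup T :=
    { (inferInstance : Group T) with mul_comm := fun a b => Subtype.ext (hcomm a a.2 b b.2) }
  haveI := Fintype.ofFinite A
  choose τ hτ hτh using fun a : A => h.decomp (a : G)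
  let φ : A → T → T := fun a t => ⟨(a : G) * t * (a : G)⁻¹, hconjT a (hAN a.2) t t.2⟩
  have hcoc : ∀ a b : A, (⟨τ (a * b), hτ _⟩ : T) = ⟨τ a, hτ a⟩ * φ a ⟨τ b, hτ b⟩ := by
    intro a b
    refine Subtype.ext (h.unique (g := ((a * b : A) : G)) (hτ _) (hτh _)
      (T.mul_mem (hτ a) (hconjT a (hAN a.2) _ (hτ b))) ?_)
    show (τ a * ((a : G) * τ b * (a : G)⁻¹))⁻¹ * ((a : G) * (b : G)) ∈ H
    have hcm : τ a * ((a : G) * τ b * (a : G)⁻¹) = (a : G) * τ b * (a : G)⁻¹ * τ a :=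
      hcomm _ (hτ a) _ (hconjT a (hAN a.2) _ (hτ b))
    have h1 := H.mul_mem (hτh a) (hτh b)
    rw [hcm]
    rwa [show ((a : G) * τ b * (a : G)⁻¹ * τ a)⁻¹ * ((a : G) * (b : G)) =
      (τ a)⁻¹ * (a : G) * ((τ b)⁻¹ * (b : G)) by group]
  have hcop : (Nat.card T).Coprime (Nat.card A) := coprime_of_isPGroup h.isP hAodd
  set P : T := ∏ a : A, ⟨τ a, hτ a⟩ with hP
  obtain ⟨s, hsP⟩ : ∃ s : T, s ^ Nat.card A = P :=
    ⟨_, (powCoprime hcop).apply_symm_apply P⟩
  refine ⟨_, h.conj_right s.2, fun a ha => ?_⟩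
  let a' : A := ⟨a, ha⟩
  let φh : T →* T :=
    { toFun := φ a'
      map_one' := Subtype.ext (by simp [φ])
      map_mul' := fun x y => Subtype.ext (by simp [φ, mul_assoc]) }
  have h1 : P = (⟨τ a', hτ a'⟩ : T) ^ Nat.card A * φh P := by
    conv_lhs => rw [hP, ← Equiv.prod_comp (Equiv.mulLeft a') (fun b : A => (⟨τ b, hτ b⟩ : T))]
    simp only [Equiv.coe_mulLeft, hcoc]
    rw [Finset.prod_mul_distrib, Finset.prod_const, Finset.card_univ, Nat.card_eq_fintype_card, hP,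
      map_prod]
    rfl
  have h2 : s = (⟨τ a', hτ a'⟩ : T) * φh s := (powCoprime hcop).injective (by
    show s ^ Nat.card A = ((⟨τ a', hτ a'⟩ : T) * φh s) ^ Nat.card A
    rw [mul_pow, ← map_pow φh, hsP, ← h1])
  have h3 : (s : G) = τ a' * (a * (s : G) * a⁻¹) := congrArg Subtype.val h2
  have h4 : (s : G) = a * (s : G) * a⁻¹ * τ a' :=
    h3.trans (hcomm _ (hτ a') _ (hconjT a (hAN ha) s s.2))
  refine ⟨(τ a')⁻¹ * a, hτh a', ?_⟩
  show (s : G) * ((τ a')⁻¹ * a) * (s : G)⁻¹ = a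
  calc (s : G) * ((τ a')⁻¹ * a) * (s : G)⁻¹
      = a * (s : G) * a⁻¹ * τ a' * ((τ a')⁻¹ * a) * (s : G)⁻¹ := by rw [← h4]
    _ = a := by group
end Cfsg.Agent.AbelianTwoFactor
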