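/-
The involutions of an abelian subgroup and coprime action on it (owner: helper90).
-/
import Cfsg.Agent.Lib.AbelianTwoFactor.Basic

set_option autoImplicit false
set_option linter.style.haveILetI false

open Subgroup

namespace Cfsg.Agent.AbelianTwoFactor

universe u

/-- The elements of order at most 2 of an abelian subgroup. -/
def omegaSq {G : Type u} [Group G] (T : Subgroup G) (h : ∀ a ∈ T, ∀ b ∈ T, a * b = b * a) :
    Subgroup G where
  carrier := {x | x ∈ T ∧ x * x = 1}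
  one_mem' := ⟨T.one_mem, mul_one 1⟩
  mul_mem' := fun {a b} ha hb => ⟨T.mul_mem ha.1 hb.1, by
    have hc : Commute b a := h b hb.1 a ha.1
    rw [hc.mul_mul_mul_comm, ha.2, hb.2, mul_one]⟩
  inv_mem' := fun {a} ha => ⟨T.inv_mem ha.1, by rw [← mul_inv_rev, ha.2, inv_one]⟩

theorem eq_one_of_sq_of_odd {G : Type u} [Group G] [Finite G] {D : Subgroup G} (hD : Odd (Nat.card D))
    {x : G} (hx : x ∈ D) (h : x * x = 1) : x = 1 :=
  orderOf_eq_one_iff.1 (Nat.eq_one_of_dvd_coprimes (Nat.coprime_two_left.2 hD)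
    (orderOf_dvd_of_pow_eq_one (by rw [pow_two, h])) (orderOf_dvd_natCard D hx))

theorem conj_pow_eq {G : Type u} [Group G] {y t c : G} (hc : y * c = c * y)
    (h : y * t * y⁻¹ = c * t) : ∀ i : ℕ, y ^ i * t * (y ^ i)⁻¹ = c ^ i * t
  | 0 => by simp
  | i + 1 => by
    have e : y ^ (i + 1) * t * (y ^ (i + 1))⁻¹ = y * (y ^ i * t * (y ^ i)⁻¹) * y⁻¹ := by
      rw [pow_succ']; group
    have hci : Commute y (c ^ i) := Commute.pow_right hc i
    rw [e, conj_pow_eq hc h i, ← mul_assoc y, hci.eq, pow_succ]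
    rw [mul_assoc, mul_assoc, ← mul_assoc y, h, mul_assoc]

/-- An element of odd order normalizing `T` and centralizing its involutions centralizes `T`. -/
theorem commute_of_omega {G : Type u} [Group G] [Finite G] {T : Subgroup G} (hT : IsPGroup 2 T)
    (hc : ∀ a ∈ T, ∀ b ∈ T, a * b = b * a) {y : G} (hy : Odd (orderOf y))
    (hn : ∀ t ∈ T, y * t * y⁻¹ ∈ T) (hE : ∀ e ∈ omegaSq T hc, y * e = e * y) :
    ∀ t ∈ T, y * t = t * y := by
  suffices key : ∀ (k : ℕ) (t : G), t ∈ T → t ^ (2 ^ k) = 1 → y * t = t * y by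
    intro t ht
    obtain ⟨k, hk⟩ := hT ⟨t, ht⟩
    exact key k t ht (by simpa using congrArg Subtype.val hk)
  intro k
  induction k with
  | zero => intro t _ h; rw [pow_zero, pow_one] at h; rw [h, mul_one, one_mul]
  | succ k ih =>
    intro t ht h
    have h2 : y * (t * t) = t * t * y := ih (t * t) (T.mul_mem ht ht) (by
      rw [← pow_two, ← pow_mul, ← pow_succ', h])
    set s := y * t * y⁻¹ with hs
    have hsT : s ∈ T := hn t ht
    have hss : s * s = t * t := by
      rw [hs, show y * t * y⁻¹ * (y * t * y⁻¹) = y * (t * t) * y⁻¹ by group, h2, mul_inv_cancel_right]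
    have hcc : s * t⁻¹ * (s * t⁻¹) = 1 := by
      have hcm : Commute t⁻¹ s := hc _ (T.inv_mem ht) _ hsT
      rw [hcm.mul_mul_mul_comm, hss, ← mul_inv_rev, mul_inv_cancel]
    have hyc : y * (s * t⁻¹) = s * t⁻¹ * y := hE _ ⟨T.mul_mem hsT (T.inv_mem ht), hcc⟩
    have hconj : y * t * y⁻¹ = s * t⁻¹ * t := by rw [inv_mul_cancel_right]
    have h3 := conj_pow_eq hyc hconj (orderOf y)
    rw [pow_orderOf_eq_one, one_mul, inv_one, mul_one] at h3
    have h4 : (s * t⁻¹) ^ orderOf y = 1 := by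
      conv_rhs => rw [← mul_inv_cancel t]
      conv_rhs => arg 1; rw [h3]
      rw [mul_inv_cancel_right]
    have h5 : s * t⁻¹ = 1 := orderOf_eq_one_iff.1 (Nat.eq_one_of_dvd_coprimes
      (Nat.coprime_two_left.2 hy) (orderOf_dvd_of_pow_eq_one (by rw [pow_two, hcc]))
      (orderOf_dvd_of_pow_eq_one h4))
    exact mul_inv_eq_iff_eq_mul.1 (mul_inv_eq_one.1 h5)


end Cfsg.Agent.AbelianTwoFactor
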