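/-
The minimal counterexample to the solvability of `T H` (owner: helper90).
-/
import Cfsg.Agent.Lib.AbelianTwoFactor.Omega
import Cfsg.Agent.Lib.Solvable.Fitting
import Cfsg.Agent.Lib.Involution.Basic

set_option autoImplicit false
set_option linter.style.haveILetI false

open Subgroup

namespace Cfsg.Agent.AbelianTwoFactor

universe u

section simple

variable {G : Type u} [Group G] [Finite G] {T H : Subgroup G}

/-- The assumptions of the minimal counterexample. -/
structure Crit (G : Type u) [Group G] (T H : Subgroup G) : Prop where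
  fac : Fac G T H
  simple : ∀ N : Subgroup G, N.Normal → N = ⊥ ∨ N = ⊤
  nonab : ¬ ∀ a b : G, a * b = b * a
  small : ∀ X : Subgroup G, X ≠ ⊤ → ∀ T' H' : Subgroup X, Fac X T' H' → Group.IsSolvable X
  even : T ≠ ⊥

namespace Crit

omit [Finite G] in
theorem center_eq (hS : Crit G T H) : center G = ⊥ :=
  (hS.simple _ inferInstance).resolve_right fun h => hS.nonab fun a b =>
    (mem_center_iff.1 (h.symm ▸ mem_top b : b ∈ center G) a)

/-- An odd subgroup of `H` normalized by `T` is trivial. -/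
theorem eq_bot_of_le (hS : Crit G T H) {W : Subgroup G} (hWH : W ≤ H)
    (hT : ∀ t ∈ T, ∀ w ∈ W, t⁻¹ * w * t ∈ W) : W = ⊥ := by
  have hW : W ≤ H.normalCore := by
    intro w hw g
    obtain ⟨t, ht, hth⟩ := hS.fac.decomp g⁻¹
    have h1 := H.mul_mem (H.mul_mem hth (hWH (hT t⁻¹ (T.inv_mem ht) (t⁻¹ * w * t) (hT t ht w hw))))
      (H.inv_mem hth)
    have h2 := H.mul_mem (H.mul_mem (H.inv_mem hth) (hWH (hT t ht w hw))) hth
    rwa [show (t⁻¹ * g⁻¹)⁻¹ * (t⁻¹ * w * t) * (t⁻¹ * g⁻¹) = g * w * g⁻¹ by group] at h2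
  rcases hS.simple _ H.normalCore_normal with h | h
  · exact le_bot_iff.1 (h ▸ hW)
  · exfalso
    refine hS.even ((Subgroup.eq_bot_iff_forall T).2 fun t ht => hS.fac.eq_one ht ?_)
    exact H.normalCore_le (h.symm ▸ mem_top t)

theorem centralizer_facts (hS : Crit G T H) {t : G} (ht : t ∈ T) (ht1 : t ≠ 1) :
    centralizer ({t} : Set G) ≤ normalizer (T : Set G) ∧
      centralizer (T : Set G) ⊓ centralizer ({t} : Set G) ≤ T := by
  haveI := Fact.mk Nat.prime_two
  set C := centralizer ({t} : Set G) with hC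
  have hTC : T ≤ C := fun a ha => mem_centralizer_singleton_iff.2 (hS.fac.comm a ha t ht)
  have hCne : C ≠ ⊤ := fun h => ht1 (by
    rw [← mem_bot (G := G), ← hS.center_eq, mem_center_iff]
    exact fun g => mem_centralizer_singleton_iff.1 (hC ▸ h.symm ▸ mem_top g))
  have hFC := hS.fac.restrict_of_le hTC
  haveI : Group.IsSolvable C := hS.small C hCne _ _ hFC
  haveI : (Cfsg.pPrimeCore 2 C).Normal := Cores.pPrimeCore_normal 2 C
  have hcore : Cfsg.pPrimeCore 2 C = ⊥ := by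
    set W := Cfsg.pPrimeCore 2 C with hW
    have hle : W ≤ H.subgroupOf C :=
      hFC.normal_odd_le (Nat.coprime_two_right.1 (Cores.coprime_card_pPrimeCore 2))
    refine (map_eq_bot_iff_of_injective W C.subtype_injective).1 (hS.eq_bot_of_le
      ((map_mono hle).trans (map_comap_le _ _)) ?_)
    rintro s hs _ ⟨w, hw, rfl⟩
    have hn := (inferInstance : W.Normal).conj_mem w hw (⟨s, hTC hs⟩ : C)⁻¹
    rw [inv_inv] at hn
    exact ⟨_, hn, rfl⟩
  have hfit := Solvable.centralizer_pCore_le_of_isSolvable (G := C) hcore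
  haveI : (Cfsg.pCore 2 C).Normal := Cores.pCore_normal 2 C
  have hPT : Cfsg.pCore 2 C ≤ T.subgroupOf C := hFC.normal_two_le (Cores.isPGroup_pCore 2 C)
  have hTP : T.subgroupOf C ≤ Cfsg.pCore 2 C := fun a ha => hfit
    (mem_centralizer_iff.2 fun b hb => (hFC.comm a ha b (hPT hb)).symm)
  have heq : Cfsg.pCore 2 C = T.subgroupOf C := le_antisymm hPT hTP
  refine ⟨fun g hg => mem_normalizer_fintype fun a ha => ?_, fun y hy => ?_⟩
  · have h1 := (inferInstance : (Cfsg.pCore 2 C).Normal).conj_mem (⟨a, hTC ha⟩ : C)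
      (heq ▸ mem_subgroupOf.2 ha) ⟨g, hg⟩
    rw [heq, mem_subgroupOf] at h1
    exact h1
  · have h1 : (⟨y, hy.2⟩ : C) ∈ centralizer (Cfsg.pCore 2 C : Set C) :=
      mem_centralizer_iff.2 fun b hb => Subtype.ext (mem_centralizer_iff.1 hy.1 b
        (mem_subgroupOf.1 (hPT hb)))
    exact mem_subgroupOf.1 (hPT (hfit h1))


omit [Finite G] in
theorem conj_mem {g t : G} (hg : g ∈ normalizer (T : Set G)) (ht : t ∈ T) : g * t * g⁻¹ ∈ T :=
  (mem_normalizer_iff.1 hg t).1 ht

theorem mem_of_commute (hS : Crit G T H) {v : G} (hv : v ∈ T) (hv1 : v ≠ 1) {g : G}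
    (hg : g * v = v * g) : g ∈ normalizer (T : Set G) :=
  (hS.centralizer_facts hv hv1).1 (mem_centralizer_singleton_iff.2 hg)

theorem mem_of_sq (hS : Crit G T H) {x : G} (hx : x ∈ normalizer (T : Set G)) (h : x * x = 1) :
    x ∈ T :=
  hS.fac.mem_of_normalize hx (isPGroup_zpowers_of_sq h)

theorem mem_of_conj_mem (hS : Crit G T H) {v : G} (hv : v ∈ T) (hv1 : v ≠ 1) {g : G}
    (hg : g * v * g⁻¹ ∈ T) : g ∈ normalizer (T : Set G) := by
  have hcomm := hS.fac.comm
  refine mem_normalizer_fintype fun t ht => ?_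
  have hne : g * v * g⁻¹ ≠ 1 := fun h => hv1 (conj_eq_one_iff.1 h)
  have hcm : g * t * g⁻¹ * (g * v * g⁻¹) = g * v * g⁻¹ * (g * t * g⁻¹) := by
    rw [show g * t * g⁻¹ * (g * v * g⁻¹) = g * (t * v) * g⁻¹ by group, hcomm t ht v hv]
    group
  refine hS.fac.mem_of_normalize (hS.mem_of_commute hg hne hcm) ?_
  have h2 : zpowers (g * t * g⁻¹) = (zpowers t).map (MulAut.conj g).toMonoidHom :=
    (MonoidHom.map_zpowers (MulAut.conj g).toMonoidHom t).symm
  rw [h2]
  exact (isPGroup_zpowers_of_mem hS.fac.isP ht).map _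

theorem exists_sq_notMem (hS : Crit G T H) : ∃ u : G, u * u = 1 ∧ u ∉ normalizer (T : Set G) := by
  obtain ⟨v₀, hv₀T, hv₀o⟩ := exists_involution_mem hS.fac.isP hS.even
  have hv₀2 : v₀ * v₀ = 1 := by rw [← pow_two, ← hv₀o, pow_orderOf_eq_one]
  have hv₀1 : v₀ ≠ 1 := fun h => by rw [h, orderOf_one] at hv₀o; omega
  by_contra hall
  push Not at hall
  set K := Subgroup.closure {x : G | x * x = 1} with hK
  have hKn : K.Normal := ⟨fun x hx g => by
    induction hx using Subgroup.closure_induction with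
    | mem y hy => exact Subgroup.subset_closure (show g * y * g⁻¹ * (g * y * g⁻¹) = 1 by
        rw [show g * y * g⁻¹ * (g * y * g⁻¹) = g * (y * y) * g⁻¹ by group,
          show y * y = 1 from hy, mul_one, mul_inv_cancel])
    | one => simp
    | mul y z _ _ hy hz =>
      rw [show g * (y * z) * g⁻¹ = g * y * g⁻¹ * (g * z * g⁻¹) by group]; exact mul_mem hy hz
    | inv y _ hy => rw [show g * y⁻¹ * g⁻¹ = (g * y * g⁻¹)⁻¹ by group]; exact inv_mem hy⟩
  have hKT : K ≤ T := (Subgroup.closure_le _).2 fun x hx => hS.mem_of_sq (hall x hx) hx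
  rcases hS.simple K hKn with h | h
  · exact hv₀1 (mem_bot.1 (h ▸ Subgroup.subset_closure hv₀2))
  · exact hS.nonab fun a b =>
      hS.fac.comm a (hKT (h.symm ▸ mem_top a)) b (hKT (h.symm ▸ mem_top b))

theorem normalizer_ne_top (hS : Crit G T H) : normalizer (T : Set G) ≠ ⊤ := fun h => by
  obtain ⟨u, -, huN⟩ := hS.exists_sq_notMem
  exact huN (h.symm ▸ mem_top u)

theorem isConj_of_notMem (hS : Crit G T H) {v x : G} (hv : v ∈ T) (hv1 : v ≠ 1) (hv2 : v * v = 1)
    (hx : x * x = 1) (hxN : x ∉ normalizer (T : Set G)) : IsConj v x := by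
  have horder : ∀ y : G, y * y = 1 → y ≠ 1 → orderOf y = 2 := fun y h h1 =>
    orderOf_eq_prime (by rw [pow_two, h]) h1
  by_contra hc
  have hxo := horder x hx (fun h => hxN (h ▸ one_mem _))
  obtain ⟨w, hw, hwv, hwx, -⟩ := Involution.exists_commuting_involution
    (horder v hv2 hv1) hxo (Involution.even_of_not_isConj (horder v hv2 hv1) hxo hc)
  have hw1 : w ≠ 1 := fun h => by rw [h, orderOf_one] at hw; omega
  have hwT : w ∈ T := hS.mem_of_sq (hS.mem_of_commute hv hv1 hwv.eq)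
    (by rw [← pow_two, ← hw, pow_orderOf_eq_one])
  exact hxN (hS.mem_of_commute hwT hw1 hwx.eq.symm)

theorem exists_conj (hS : Crit G T H) {v w : G} (hv : v ∈ omegaSq T hS.fac.comm) (hv1 : v ≠ 1)
    (hw : w ∈ omegaSq T hS.fac.comm) (hw1 : w ≠ 1) :
    ∃ g ∈ normalizer (T : Set G), g * v * g⁻¹ = w := by
  obtain ⟨u, hu2, huN⟩ := hS.exists_sq_notMem
  obtain ⟨g, hg⟩ := isConj_iff.1 ((hS.isConj_of_notMem hv.1 hv1 hv.2 hu2 huN).trans
    (hS.isConj_of_notMem hw.1 hw1 hw.2 hu2 huN).symm)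
  exact ⟨g, hS.mem_of_conj_mem hv.1 hv1 (hg ▸ hw.1), hg⟩

end Crit

end simple

end Cfsg.Agent.AbelianTwoFactor
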