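/-
The rank of the 2-factor of a minimal counterexample (owner: helper90).
-/
import Cfsg.Agent.Lib.AbelianTwoFactor.Crit
import Cfsg.Agent.Lib.ZStarPrimePower.UniqueInvolution

set_option autoImplicit false
set_option linter.style.haveILetI false

open Subgroup

namespace Cfsg.Agent.AbelianTwoFactor

universe u

variable {G : Type u} [Group G] [Finite G] {T H : Subgroup G}

theorem Crit.three_le_card (hS : Crit G T H) : 3 ≤ Nat.card (omegaSq T hS.fac.comm) := by
  classical
  haveI := Fact.mk Nat.prime_two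
  have hcomm := hS.fac.comm
  obtain ⟨v₀, hv₀T, hv₀o⟩ := exists_involution_mem hS.fac.isP hS.even
  have hv₀2 : v₀ * v₀ = 1 := by rw [← pow_two, ← hv₀o, pow_orderOf_eq_one]
  have hv₀1 : v₀ ≠ 1 := fun h => by rw [h, orderOf_one] at hv₀o; omega
  set E := omegaSq T hS.fac.comm with hE
  by_contra hlt
  have huniq : ∀ a : T, a * a = 1 → a = 1 ∨ a = ⟨v₀, hv₀T⟩ := by
    intro a ha
    by_contra hne
    push Not at hne
    apply hlt
    haveI := Fintype.ofFinite E
    let e1 : E := ⟨1, E.one_mem⟩
    let e2 : E := ⟨v₀, hv₀T, hv₀2⟩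
    let e3 : E := ⟨a, a.2, congrArg Subtype.val ha⟩
    have h12 : e1 ≠ e2 := fun h => hv₀1 (congrArg Subtype.val h).symm
    have h13 : e1 ≠ e3 := fun h => hne.1 (Subtype.ext (congrArg Subtype.val h).symm)
    have h23 : e2 ≠ e3 := fun h => hne.2 (Subtype.ext ((congrArg Subtype.val h).symm :))
    calc 3 = ({e1, e2, e3} : Finset E).card := by
          rw [Finset.card_insert_of_notMem (by simp [h12, h13]), Finset.card_pair h23]
      _ ≤ Fintype.card E := Finset.card_le_univ _
      _ = Nat.card E := Nat.card_eq_fintype_card.symm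
  have hcyc : IsCyclic T := isCyclic_of_unique_involution hS.fac.isP
    (fun a b => Subtype.ext (hcomm a a.2 b b.2)) huniq
  obtain ⟨K, hK, hKodd, hKc⟩ := ZStarPrimePower.cyclic_case G v₀
    (hS.fac.isP.toSylow hS.fac.not_dvd_index) hv₀o hv₀T hcyc
  rcases hS.simple K hK with h | h
  · refine hv₀1 (mem_bot.1 (hS.center_eq ▸ mem_center_iff.2 fun g => ?_))
    have := hKc g
    rw [h, mem_bot, mul_inv_eq_one, mul_inv_eq_iff_eq_mul] at this
    exact this.symm
  · rw [h, card_top] at hKodd
    have h2 : orderOf v₀ ∣ Nat.card G := orderOf_dvd_natCard v₀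
    rw [hv₀o] at h2
    exact Nat.not_even_iff_odd.2 hKodd (even_iff_two_dvd.2 h2)
end Cfsg.Agent.AbelianTwoFactor
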