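/-
A bound for semilinear transformations fixing a vector (owner: helper90).
-/
import Mathlib.FieldTheory.Finite.Basic

set_option autoImplicit false
set_option linter.style.haveILetI false

open Subgroup

namespace Cfsg.Agent.AbelianTwoFactor

universe u

/-- A set of automorphisms of a semilinear structure fixing a vector is smaller than the field. -/
theorem card_add_two_le {F V ι : Type*} [Field F] [Fintype F] [AddCommGroup V] [Finite ι]
    (e : V ≃+ F) (hF : 3 ≤ Nat.card F) (act : ι → V → V)
    (hsem : ∀ i, ∃ (a : F) (σ : F ≃+* F), ∀ v, e (act i v) = a * σ (e v))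
    (hinj : ∀ i j, (∀ v, act i v = act j v) → i = j) {v₀ : V} (hv : v₀ ≠ 0)
    (hfix : ∀ i, act i v₀ = v₀) : Nat.card ι + 2 ≤ Nat.card F := by
  classical
  haveI := Fintype.ofFinite ι
  choose a σ hσ using hsem
  obtain ⟨g, hg⟩ := IsCyclic.exists_generator (α := Fˣ)
  have hg1 : (g : F) ≠ 1 := by
    intro h1
    have hone : ∀ x : Fˣ, x = 1 := fun x => by
      have := hg x
      rw [show g = 1 from Units.ext h1, zpowers_one_eq_bot, mem_bot] at this
      exact this
    have h2 : Fintype.card Fˣ = 1 := Fintype.card_eq_one_iff.2 ⟨1, hone⟩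
    rw [Fintype.card_units, ← Nat.card_eq_fintype_card] at h2
    omega
  have he : e v₀ ≠ 0 := fun h => hv (e.map_eq_zero_iff.1 h)
  have hinj' : Function.Injective fun i => σ i (g : F) := by
    intro i j hij
    have hs : σ i = σ j := by
      refine RingEquiv.ext fun x => ?_
      by_cases hx : x = 0
      · rw [hx, map_zero, map_zero]
      · obtain ⟨k, hk⟩ := mem_powers_iff_mem_zpowers.2 (hg (Units.mk0 x hx))
        have hk' : (g : F) ^ k = x := by simpa using congrArg Units.val hk
        simp only at hij
        rw [← hk', map_pow, map_pow, hij]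
    have hne : σ i (e v₀) ≠ 0 := fun h => he ((σ i).map_eq_zero_iff.1 h)
    have ha : a i = a j := mul_right_cancel₀ hne (by
      rw [← hσ i, hfix i]
      conv_lhs => rw [← hfix j]
      rw [hσ j, hs])
    exact hinj i j fun v => e.injective (by rw [hσ i, hσ j, ha, hs])
  have hsub : Finset.univ.image (fun i => σ i (g : F)) ⊆ Finset.univ \ {0, 1} := by
    intro x hx
    obtain ⟨i, -, rfl⟩ := Finset.mem_image.1 hx
    simp only [Finset.mem_sdiff, Finset.mem_univ, Finset.mem_insert, Finset.mem_singleton, true_and,
      not_or]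
    exact ⟨fun h => g.ne_zero ((σ i).map_eq_zero_iff.1 h),
      fun h => hg1 ((σ i).injective (by rw [h, map_one]))⟩
  have h3 := Finset.card_le_card hsub
  rw [Finset.card_image_of_injective _ hinj', Finset.card_univ,
    Finset.card_sdiff_of_subset (Finset.subset_univ _), Finset.card_pair zero_ne_one,
    Finset.card_univ] at h3
  rw [Nat.card_eq_fintype_card] at hF ⊢
  rw [Nat.card_eq_fintype_card]
  omega

end Cfsg.Agent.AbelianTwoFactor
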