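/-
A coset with many involutions (owner: helper90).
-/
import Cfsg.Agent.Lib.AbelianTwoFactor.Crit

set_option autoImplicit false
set_option linter.style.haveILetI false

open Subgroup

namespace Cfsg.Agent.AbelianTwoFactor

universe u

variable {G : Type u} [Group G] [Finite G] {T H : Subgroup G}

/-- The two-point stabilizer attached to `w`. -/
def twoPoint (T : Subgroup G) (w : G) : Subgroup G :=
  normalizer (T : Set G) ⊓ (normalizer (T : Set G)).comap (MulAut.conj w).toMonoidHom

omit [Finite G] in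
theorem mem_twoPoint {w : G} (hww : w * w = 1) {x : G} :
    x ∈ twoPoint T w ↔ x ∈ normalizer (T : Set G) ∧ w * x * w ∈ normalizer (T : Set G) := by
  rw [twoPoint, mem_inf, mem_comap, MulEquiv.coe_toMonoidHom, MulAut.conj_apply,
    inv_eq_of_mul_eq_one_right hww]

theorem Crit.exists_twoPoint (hS : Crit G T H) (hq3 : 3 ≤ Nat.card (omegaSq T hS.fac.comm)) :
    ∃ w : G, w * w = 1 ∧ w ∉ normalizer (T : Set G) ∧
      Nat.card (omegaSq T hS.fac.comm) - 1 ≤ Nat.card (twoPoint T w) := by
  classical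
  have hcomm := hS.fac.comm
  obtain ⟨v₀, hv₀T, hv₀o⟩ := exists_involution_mem hS.fac.isP hS.even
  have hv₀2 : v₀ * v₀ = 1 := by rw [← pow_two, ← hv₀o, pow_orderOf_eq_one]
  have hv₀1 : v₀ ≠ 1 := fun h => by rw [h, orderOf_one] at hv₀o; omega
  have hNtop := hS.normalizer_ne_top
  set E := omegaSq T hS.fac.comm with hE
  set N := normalizer (T : Set G) with hN
  have hconjT : ∀ g ∈ N, ∀ t ∈ T, g * t * g⁻¹ ∈ T := fun g hg t ht => Crit.conj_mem hg ht
  have hmem : ∀ x, x ∈ N → x * x = 1 → x ∈ T := fun x hx h => hS.mem_of_sq hx h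
  have hconj : ∀ v ∈ T, v ≠ 1 → v * v = 1 → ∀ x, x * x = 1 → x ∉ N → IsConj v x :=
    fun v hv hv1 hv2 x hx hxN => hS.isConj_of_notMem hv hv1 hv2 hx hxN
  have htrans : ∀ v ∈ E, v ≠ 1 → ∀ w ∈ E, w ≠ 1 → ∃ g ∈ N, g * v * g⁻¹ = w :=
    fun v hv hv1 w hw hw1 => hS.exists_conj hv hv1 hw hw1
  set I := {x : G // x * x = 1 ∧ x ≠ 1}
  haveI := Fintype.ofFinite I
  haveI := Fintype.ofFinite (G ⧸ N)
  let f : I → G ⧸ N := fun x => ((x : G) : G ⧸ N)
  have hI : Nat.card I = (Nat.card E - 1) * N.index := by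
    set C := centralizer ({v₀} : Set G)
    have hC : C ≤ N := (hS.centralizer_facts hv₀T hv₀1).1
    have hidx : C.index = Nat.card I := by
      rw [index_eq_card]
      refine Nat.card_eq_of_bijective (fun q : G ⧸ C => Quotient.liftOn' q
        (fun g => (⟨g * v₀ * g⁻¹, by
          rw [show g * v₀ * g⁻¹ * (g * v₀ * g⁻¹) = g * (v₀ * v₀) * g⁻¹ by group, hv₀2, mul_one,
            mul_inv_cancel], fun h => hv₀1 (conj_eq_one_iff.1 h)⟩ : I))
        fun a b hab => ?_) ⟨?_, ?_⟩
      · rw [QuotientGroup.leftRel_apply, mem_centralizer_singleton_iff] at hab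
        refine Subtype.ext ?_
        show a * v₀ * a⁻¹ = b * v₀ * b⁻¹
        calc a * v₀ * a⁻¹ = a * (v₀ * (a⁻¹ * b)) * (a⁻¹ * b)⁻¹ * a⁻¹ := by group
          _ = a * ((a⁻¹ * b) * v₀) * (a⁻¹ * b)⁻¹ * a⁻¹ := by rw [hab]
          _ = b * v₀ * b⁻¹ := by group
      · intro x y hxy
        induction x using QuotientGroup.induction_on with
        | H a => induction y using QuotientGroup.induction_on with
          | H b =>
            have h1 : a * v₀ * a⁻¹ = b * v₀ * b⁻¹ := congrArg Subtype.val hxy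
            refine QuotientGroup.eq.2 (mem_centralizer_singleton_iff.2 ?_)
            calc a⁻¹ * b * v₀ = a⁻¹ * (b * v₀ * b⁻¹) * b := by group
              _ = a⁻¹ * (a * v₀ * a⁻¹) * b := by rw [h1]
              _ = v₀ * (a⁻¹ * b) := by group
      · rintro ⟨x, hx, hx1⟩
        obtain ⟨g, hg⟩ : ∃ g, g * v₀ * g⁻¹ = x := by
          by_cases hxN : x ∈ N
          · obtain ⟨g, -, hg⟩ := htrans v₀ ⟨hv₀T, hv₀2⟩ hv₀1 x ⟨hmem x hxN hx, hx⟩ hx1
            exact ⟨g, hg⟩
          · exact isConj_iff.1 (hconj v₀ hv₀T hv₀1 hv₀2 x hx hxN)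
        exact ⟨(g : G ⧸ C), Subtype.ext hg⟩
    have hrel : C.relIndex N = Nat.card E - 1 := by
      rw [relIndex, index_eq_card]
      have hcard : Nat.card {e : E // e ≠ 1} = Nat.card E - 1 := by
        haveI := Fintype.ofFinite E
        rw [Nat.card_eq_fintype_card, Nat.card_eq_fintype_card, Fintype.card_subtype_compl,
          Fintype.card_subtype_eq]
      rw [← hcard]
      refine Nat.card_eq_of_bijective (fun q : N ⧸ C.subgroupOf N => Quotient.liftOn' q
        (fun g => (⟨⟨(g : G) * v₀ * (g : G)⁻¹, hconjT g g.2 v₀ hv₀T, by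
          rw [show (g : G) * v₀ * (g : G)⁻¹ * ((g : G) * v₀ * (g : G)⁻¹) = g * (v₀ * v₀) * (g : G)⁻¹
            by group, hv₀2, mul_one, mul_inv_cancel]⟩,
          fun h => hv₀1 (conj_eq_one_iff.1 (congrArg Subtype.val h))⟩ : {e : E // e ≠ 1}))
        fun a b hab => ?_) ⟨?_, ?_⟩
      · rw [QuotientGroup.leftRel_apply, mem_subgroupOf, mem_centralizer_singleton_iff] at hab
        refine Subtype.ext (Subtype.ext ?_)
        simp only [Subgroup.coe_mul, InvMemClass.coe_inv] at hab
        show (a : G) * v₀ * (a : G)⁻¹ = b * v₀ * (b : G)⁻¹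
        calc (a : G) * v₀ * (a : G)⁻¹
            = a * (v₀ * ((a : G)⁻¹ * b)) * ((a : G)⁻¹ * b)⁻¹ * (a : G)⁻¹ := by group
          _ = a * (((a : G)⁻¹ * b) * v₀) * ((a : G)⁻¹ * b)⁻¹ * (a : G)⁻¹ := by rw [hab]
          _ = b * v₀ * (b : G)⁻¹ := by group
      · intro x y hxy
        induction x using QuotientGroup.induction_on with
        | H a => induction y using QuotientGroup.induction_on with
          | H b =>
            have h1 : (a : G) * v₀ * (a : G)⁻¹ = b * v₀ * (b : G)⁻¹ :=
              congrArg Subtype.val (congrArg Subtype.val hxy)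
            refine QuotientGroup.eq.2 (mem_subgroupOf.2 (mem_centralizer_singleton_iff.2 ?_))
            simp only [Subgroup.coe_mul, InvMemClass.coe_inv]
            calc (a : G)⁻¹ * b * v₀ = (a : G)⁻¹ * (b * v₀ * (b : G)⁻¹) * b := by group
              _ = (a : G)⁻¹ * (a * v₀ * (a : G)⁻¹) * b := by rw [h1]
              _ = v₀ * ((a : G)⁻¹ * b) := by group
      · rintro ⟨⟨x, hx⟩, hx1⟩
        obtain ⟨g, hg, hgx⟩ := htrans v₀ ⟨hv₀T, hv₀2⟩ hv₀1 x hx fun h => hx1 (Subtype.ext h)
        exact ⟨((⟨g, hg⟩ : N) : N ⧸ C.subgroupOf N), Subtype.ext (Subtype.ext hgx)⟩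
    rw [← hidx, ← relIndex_mul_index hC, hrel]
  obtain ⟨c, hc, hcbig⟩ : ∃ c : G ⧸ N, c ≠ ((1 : G) : G ⧸ N) ∧
      Nat.card E - 1 ≤ (Finset.univ.filter fun x : I => f x = c).card := by
    by_contra hall
    push Not at hall
    have hbase : (Finset.univ.filter fun x : I => f x = ((1 : G) : G ⧸ N)).card ≤ Nat.card E - 1 := by
      haveI := Fintype.ofFinite E
      have key : (Finset.univ.filter fun x : I => f x = ((1 : G) : G ⧸ N)).card ≤
          ((Finset.univ : Finset E).erase 1).card := by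
        refine Finset.card_le_card_of_injOn
          (fun x => if h : (x : G) ∈ E then (⟨(x : G), h⟩ : E) else 1) (fun x hx => ?_) ?_
        · have hxN : (x : G) ∈ N := by
            have := (Finset.mem_filter.1 (Finset.mem_coe.1 hx)).2
            have h2 := QuotientGroup.eq.1 this
            rwa [mul_one, inv_mem_iff] at h2
          have hxE : (x : G) ∈ E := ⟨hmem _ hxN x.2.1, x.2.1⟩
          simp only [dif_pos hxE, Finset.coe_erase, Set.mem_sdiff, Finset.coe_univ, Set.mem_univ,
            Set.mem_singleton_iff, true_and]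
          exact fun h => x.2.2 (congrArg Subtype.val h)
        · intro x hx y hy hxy
          have hE' : ∀ z ∈ (Finset.univ.filter fun x : I => f x = ((1 : G) : G ⧸ N)), (z : G) ∈ E := by
            intro z hz
            have h2 := QuotientGroup.eq.1 (Finset.mem_filter.1 hz).2
            rw [mul_one, inv_mem_iff] at h2
            exact ⟨hmem _ h2 z.2.1, z.2.1⟩
          simp only [dif_pos (hE' x (Finset.mem_coe.1 hx)), dif_pos (hE' y (Finset.mem_coe.1 hy))] at hxy
          exact Subtype.ext (congrArg Subtype.val hxy :)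
      rwa [Finset.card_erase_of_mem (Finset.mem_univ _), Finset.card_univ,
        ← Nat.card_eq_fintype_card] at key
    have hsum := Finset.card_eq_sum_card_fiberwise (s := (Finset.univ : Finset I))
      (t := (Finset.univ : Finset (G ⧸ N))) (f := f) (fun _ _ => Finset.mem_univ _)
    rw [Finset.card_univ, ← Nat.card_eq_fintype_card, hI,
      ← Finset.add_sum_erase _ _ (Finset.mem_univ ((1 : G) : G ⧸ N))] at hsum
    have hle : ∑ c ∈ (Finset.univ : Finset (G ⧸ N)).erase ((1 : G) : G ⧸ N),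
        (Finset.univ.filter fun x : I => f x = c).card ≤ (N.index - 1) * (Nat.card E - 2) := by
      refine (Finset.sum_le_card_nsmul _ _ (Nat.card E - 2) fun c hc => ?_).trans (le_of_eq ?_)
      · have := hall c (Finset.mem_erase.1 hc).1
        omega
      · rw [smul_eq_mul, Finset.card_erase_of_mem (Finset.mem_univ _), Finset.card_univ,
          ← Nat.card_eq_fintype_card, ← index_eq_card]
    have hidx : 2 ≤ N.index := by
      have h0 : N.index ≠ 0 := index_ne_zero_of_finite
      have h1 : N.index ≠ 1 := fun h => hNtop (index_eq_one.1 h)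
      omega
    obtain ⟨r, hr⟩ : ∃ r, N.index = r + 2 := ⟨N.index - 2, by omega⟩
    obtain ⟨q, hq⟩ : ∃ q, Nat.card E = q + 2 := ⟨Nat.card E - 2, by omega⟩
    rw [hq, hr] at hsum hle
    rw [hq] at hbase
    simp only [Nat.add_sub_cancel, show q + 2 - 1 = q + 1 by omega, show r + 2 - 1 = r + 1 by omega]
      at hsum hle hbase
    nlinarith
  -- a representative `w` and its two-point group
  obtain ⟨w, hw⟩ : ∃ w : I, f w = c := by
    by_contra h
    push Not at h
    rw [Finset.filter_eq_empty_iff.2 (fun x _ => h x), Finset.card_empty] at hcbig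
    omega
  have hwN : (w : G) ∉ N := fun h => hc (by
    rw [← hw]; exact QuotientGroup.eq.2 (by rwa [mul_one, inv_mem_iff]))
  have hww : (w : G) * w = 1 := w.2.1
  have hwinv : (w : G)⁻¹ = w := inv_eq_of_mul_eq_one_right hww
  refine ⟨w, hww, hwN, ?_⟩
  set D := twoPoint T (w : G) with hD
  have hDiff : ∀ x, x ∈ D ↔ x ∈ N ∧ (w : G) * x * w ∈ N := fun x => mem_twoPoint hww
  refine hcbig.trans ?_
  haveI := Fintype.ofFinite D
  rw [Nat.card_eq_fintype_card, ← Finset.card_univ]
  refine Finset.card_le_card_of_injOn (fun x => if h : (w : G) * (x : G) ∈ D then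
    (⟨(w : G) * (x : G), h⟩ : D) else 1) (fun _ _ => Finset.mem_univ _) ?_
  have key : ∀ x ∈ (Finset.univ.filter fun x : I => f x = c), (w : G) * (x : G) ∈ D := by
    intro x hx
    have h1 : (w : G)⁻¹ * (x : G) ∈ N := QuotientGroup.eq.1 (hw.trans (Finset.mem_filter.1 hx).2.symm)
    rw [hwinv] at h1
    refine (hDiff _).2 ⟨h1, ?_⟩
    have h2 := N.inv_mem h1
    rwa [mul_inv_rev, inv_eq_of_mul_eq_one_right x.2.1, hwinv,
      show (x : G) * w = (w : G) * ((w : G) * x) * w by rw [← mul_assoc (w : G), hww, one_mul]] at h2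
  intro x hx y hy hxy
  simp only [dif_pos (key x (Finset.mem_coe.1 hx)), dif_pos (key y (Finset.mem_coe.1 hy))] at hxy
  exact Subtype.ext (mul_left_cancel (congrArg Subtype.val hxy :))
end Cfsg.Agent.AbelianTwoFactor
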