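/-
The two-point group of a minimal counterexample (owner: helper90).
-/
import Cfsg.Agent.Lib.AbelianTwoFactor.Coset
import Cfsg.Agent.Lib.OddOrderTheorem.Basic

set_option autoImplicit false
set_option linter.style.haveILetI false

open Subgroup

namespace Cfsg.Agent.AbelianTwoFactor

universe u

variable {G : Type u} [Group G] [Finite G] {T H : Subgroup G}

theorem Crit.odd_twoPoint (hS : Crit G T H) {w : G} (hww : w * w = 1)
    (hwN : w ∉ normalizer (T : Set G)) : Odd (Nat.card (twoPoint T w)) := by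
  haveI := Fact.mk Nat.prime_two
  set D := twoPoint T w with hD
  set N := normalizer (T : Set G) with hN
  have hwinv : w⁻¹ = w := inv_eq_of_mul_eq_one_right hww
  have hmem : ∀ x, x ∈ N → x * x = 1 → x ∈ T := fun x hx h => hS.mem_of_sq hx h
  have hDinv : ∀ v ∈ D, v * v = 1 → v = 1 := by
    intro v hv h2
    by_contra hv1
    obtain ⟨h1, h3⟩ := (mem_twoPoint hww).1 hv
    refine hwN (hS.mem_of_conj_mem (hmem v h1 h2) hv1 (g := w) ?_)
    rw [hwinv]
    exact hmem _ h3 (by
      rw [show w * v * w * (w * v * w) = w * v * (w * w) * v * w by group,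
        hww, mul_one, mul_assoc w v v, h2, mul_one, hww])
  rw [← Nat.not_even_iff_odd, even_iff_two_dvd]
  intro h2
  obtain ⟨v, hv⟩ := exists_prime_orderOf_dvd_card' (G := D) 2 h2
  rw [← Subgroup.orderOf_coe] at hv
  have := hDinv v v.2 (by rw [← pow_two, ← hv, pow_orderOf_eq_one])
  rw [this, orderOf_one] at hv
  omega

theorem Crit.exists_abelian_le (hS : Crit G T H) {w : G} (hww : w * w = 1)
    (hwN : w ∉ normalizer (T : Set G)) (hD2 : 2 ≤ Nat.card (twoPoint T w)) :
    ∃ A : Subgroup G, A ≤ twoPoint T w ∧ A ≠ ⊥ ∧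
      (∀ a ∈ A, ∀ b ∈ A, a * b = b * a) ∧ w ∈ normalizer (A : Set G) ∧
      twoPoint T w ≤ normalizer (A : Set G) := by
  classical
  set D := twoPoint T w with hD
  set N := normalizer (T : Set G) with hN
  have hwinv : w⁻¹ = w := inv_eq_of_mul_eq_one_right hww
  have hDiff : ∀ x, x ∈ D ↔ x ∈ N ∧ w * x * w ∈ N := fun x => mem_twoPoint hww
  haveI : Group.IsSolvable D := OddOrderTheorem.solvable (hS.odd_twoPoint hww hwN)
  have hD1 : (⊤ : Subgroup D) ≠ ⊥ := fun h => by
    have : Nat.card D = 1 := by rw [← Subgroup.card_top, h, Subgroup.card_bot]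
    omega
  obtain ⟨n, hn⟩ := (inferInstance : Group.IsSolvable D).solvable
  have hex : ∃ k, derivedSeries D k = ⊥ := ⟨n, hn⟩
  have hk0 : Nat.find hex ≠ 0 := fun h => hD1 (by
    have := Nat.find_spec hex
    rwa [h, derivedSeries_zero] at this)
  obtain ⟨k, hk⟩ := Nat.exists_eq_succ_of_ne_zero hk0
  have hkne : derivedSeries D k ≠ ⊥ := Nat.find_min hex (by omega)
  have hk1 := Nat.find_spec hex
  rw [hk, derivedSeries_succ, commutator_eq_bot_iff_le_centralizer] at hk1
  refine ⟨(derivedSeries D k).map D.subtype, map_subtype_le _,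
    fun h => hkne ((map_eq_bot_iff_of_injective _ D.subtype_injective).1 h), ?_,
    Cores.normalizer_le_normalizer_map _ ?_, le_trans le_normalizer (Cores.normalizer_le_normalizer_map _)⟩
  · rintro _ ⟨a, ha, rfl⟩ _ ⟨b, hb, rfl⟩
    exact congrArg Subtype.val (mem_centralizer_iff.1 (hk1 hb) a ha)
  · refine mem_normalizer_fintype fun x hx => ?_
    obtain ⟨h1, h2⟩ := (hDiff x).1 hx
    rw [hwinv]
    refine (hDiff _).2 ⟨h2, ?_⟩
    rw [show w * (w * x * w) * w = (w * w) * x * (w * w) by group, hww,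
      one_mul, mul_one]
    exact h1
end Cfsg.Agent.AbelianTwoFactor
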