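/-
The centralizer in the 2-factor of an odd subgroup inverted from outside (owner: helper90).
-/
import Cfsg.Agent.Lib.AbelianTwoFactor.Crit
import Cfsg.Agent.Lib.Coprime.Generation

set_option autoImplicit false
set_option linter.style.haveILetI false

open Subgroup

namespace Cfsg.Agent.AbelianTwoFactor

universe u

variable {G : Type u} [Group G] [Finite G] {T H : Subgroup G}

theorem Crit.eq_of_commute (hS : Crit G T H) {A H' : Subgroup G} {w : G}
    (hwN : w ∉ normalizer (T : Set G)) (hAw : w ∈ normalizer (A : Set G))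
    (hsol : Group.IsSolvable (normalizer (A : Set G)))
    (hFX : Fac (normalizer (A : Set G)) (T.subgroupOf (normalizer (A : Set G)))
      (H'.subgroupOf (normalizer (A : Set G))))
    {v : G} (hvT : v ∈ T) (hv1 : v ≠ 1) (hv2 : v * v = 1) (hvA : ∀ a ∈ A, a * v = v * a)
    {z : G} (hz : z ∈ omegaSq T hS.fac.comm) (hzA : ∀ a ∈ A, a * z = z * a) : z = 1 ∨ z = v := by
  classical
  have hcomm := hS.fac.comm
  set E := omegaSq T hS.fac.comm with hE
  set N := normalizer (T : Set G) with hN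
  set X := normalizer (A : Set G) with hX
  have hTN : T ≤ N := le_normalizer
  have hmem : ∀ x, x ∈ N → x * x = 1 → x ∈ T := fun x hx h => hS.mem_of_sq hx h
  have hCN : ∀ v ∈ T, v ≠ 1 → ∀ g, g * v = v * g → g ∈ N := fun v hv hv1 g hg =>
    hS.mem_of_commute hv hv1 hg
  have hSE : ∀ v ∈ T, v ≠ 1 → v * v = 1 → ∀ g, g * v * g⁻¹ ∈ T → g ∈ N :=
    fun v hv hv1 _ g hg => hS.mem_of_conj_mem hv hv1 hg
  haveI := hsol
  by_contra hne
  push Not at hne
  set V := E ⊓ centralizer (A : Set G) with hV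
  have hVX : V ≤ X := fun x hx => mem_normalizer_fintype fun a ha => by
    rw [← mem_centralizer_iff.1 hx.2 a ha, mul_inv_cancel_right]; exact ha
  haveI : IsMulCommutative V := ⟨⟨fun a b => Subtype.ext (hcomm a a.2.1.1 b b.2.1.1)⟩⟩
  have hVcyc : ¬ IsCyclic V := by
    intro hcyc
    haveI := Fintype.ofFinite V
    have hle := IsCyclic.card_pow_eq_one_le (α := V) (n := 2) two_pos
    have hall : (Finset.univ.filter fun a : V => a ^ 2 = 1) = Finset.univ :=
      Finset.filter_eq_self.2 fun a _ => Subtype.ext (by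
        simpa [pow_two] using a.2.1.2)
    rw [hall, Finset.card_univ] at hle
    let e1 : V := ⟨1, V.one_mem⟩
    let e2 : V := ⟨v, ⟨hvT, hv2⟩, mem_centralizer_iff.2 hvA⟩
    let e3 : V := ⟨z, hz, mem_centralizer_iff.2 hzA⟩
    have h12 : e1 ≠ e2 := fun h => hv1 (congrArg Subtype.val h).symm
    have h13 : e1 ≠ e3 := fun h => hne.1 (congrArg Subtype.val h).symm
    have h23 : e2 ≠ e3 := fun h => hne.2 (congrArg Subtype.val h).symm
    have h3 : ({e1, e2, e3} : Finset V).card = 3 := by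
      rw [Finset.card_insert_of_notMem (by simp [h12, h13]), Finset.card_pair h23]
    have := Finset.card_le_univ ({e1, e2, e3} : Finset V)
    omega
  haveI : (Cfsg.pPrimeCore 2 X).Normal := Cores.pPrimeCore_normal 2 X
  set W := (Cfsg.pPrimeCore 2 X).map X.subtype with hW
  have hWodd : Odd (Nat.card W) := by
    rw [hW, Subgroup.card_map_of_injective X.subtype_injective]
    exact Nat.coprime_two_right.1 (Cores.coprime_card_pPrimeCore 2)
  have hWN : W ≤ N := by
    refine Coprime.le_of_noncyclic (A := V) hVcyc ?_ (coprime_of_isPGroup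
      (hS.fac.isP.to_le fun x hx => hx.1.1) hWodd) ?_
    · intro x hx
      refine mem_normalizer_fintype ?_
      rintro _ ⟨y, hy, rfl⟩
      exact ⟨_, (inferInstance : (Cfsg.pPrimeCore 2 X).Normal).conj_mem y hy ⟨x, hVX hx⟩, rfl⟩
    · rintro a ha ha1 x ⟨-, hxa⟩
      exact hCN a ha.1.1 ha1 x (mem_centralizer_singleton_iff.1 hxa)
  -- the quotient by the odd core
  set W₀ := Cfsg.pPrimeCore 2 X with hW₀
  set π := QuotientGroup.mk' W₀ with hπ
  have hFq := hFX.quotient W₀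
  haveI : Group.IsSolvable (X ⧸ W₀) := Group.isSolvable_of_surjective (QuotientGroup.mk'_surjective W₀)
  have hfit := Solvable.centralizer_pCore_le_of_isSolvable (G := X ⧸ W₀) (p := 2)
    (Cores.pPrimeCore_quotient_self 2)
  haveI : (Cfsg.pCore 2 (X ⧸ W₀)).Normal := Cores.pCore_normal 2 _
  have hPT : Cfsg.pCore 2 (X ⧸ W₀) ≤ (T.subgroupOf X).map π :=
    hFq.normal_two_le (Cores.isPGroup_pCore 2 _)
  have hTP : (T.subgroupOf X).map π ≤ Cfsg.pCore 2 (X ⧸ W₀) := fun a ha => hfit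
    (mem_centralizer_iff.2 fun b hb => (hFq.comm a ha b (hPT hb)).symm)
  have heq : (T.subgroupOf X).map π = Cfsg.pCore 2 (X ⧸ W₀) := le_antisymm hTP hPT
  have hvX : v ∈ X := hVX ⟨⟨hvT, hv2⟩, mem_centralizer_iff.2 hvA⟩
  have h1 : π (⟨w, hAw⟩ * ⟨v, hvX⟩ * (⟨w, hAw⟩ : X)⁻¹) ∈ (T.subgroupOf X).map π := by
    rw [map_mul, map_mul, map_inv, heq]
    refine (inferInstance : (Cfsg.pCore 2 (X ⧸ W₀)).Normal).conj_mem _ ?_ _
    exact hTP ⟨⟨v, hvX⟩, mem_subgroupOf.2 hvT, rfl⟩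
  obtain ⟨t, ht, hte⟩ := h1
  have h2 : (t⁻¹ * (⟨w, hAw⟩ * ⟨v, hvX⟩ * (⟨w, hAw⟩ : X)⁻¹) : X) ∈ W₀ :=
    (QuotientGroup.eq).1 hte
  have h3 : w * v * w⁻¹ ∈ N := by
    have h4 : (t : G)⁻¹ * (w * v * w⁻¹) ∈ N := hWN ⟨_, h2, rfl⟩
    have := N.mul_mem (hTN (mem_subgroupOf.1 ht)) h4
    rwa [mul_inv_cancel_left] at this
  refine hwN (hSE v hvT hv1 hv2 w (hmem _ h3 ?_))
  rw [show w * v * w⁻¹ * (w * v * w⁻¹) = w * (v * v) * w⁻¹
    by group, hv2, mul_one, mul_inv_cancel]
end Cfsg.Agent.AbelianTwoFactor
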