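/-
A group with an abelian Sylow 2-subgroup and a 2-complement is solvable (owner: helper90).

Main result: `isSolvable_of_fac`.
-/
import Cfsg.Agent.Lib.AbelianTwoFactor.Conjugate
import Cfsg.Agent.Lib.AbelianTwoFactor.Semilinear
import Cfsg.Agent.Lib.AbelianTwoFactor.Rank
import Cfsg.Agent.Lib.AbelianTwoFactor.TwoPoint
import Cfsg.Agent.Lib.AbelianTwoFactor.Unique
import Cfsg.Agent.Lib.OddOrderTheorem.Basic
import Cfsg.Agent.Lib.Huppert.Main

set_option autoImplicit false
set_option linter.style.haveILetI false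

open Subgroup

namespace Cfsg.Agent.AbelianTwoFactor

universe u

theorem isSolvable_of_solvable_normal {G : Type u} [Group G] (N : Subgroup G) [N.Normal]
    (h1 : Group.IsSolvable N) (h2 : Group.IsSolvable (G ⧸ N)) : Group.IsSolvable G :=
  (Group.isSolvable_iff_subgroup_quotient N).2 ⟨h1, h2⟩

variable {G : Type u} [Group G] [Finite G] {T H : Subgroup G}

/-- An odd subgroup of `N(T)` fixing an involution of `T` is small. -/
theorem Crit.card_fix_add_two_le (hS : Crit G T H) (hq3 : 3 ≤ Nat.card (omegaSq T hS.fac.comm))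
    {D : Subgroup G} (hDle : D ≤ normalizer (T : Set G)) (hDodd : Odd (Nat.card D))
    {v : G} (hvT : v ∈ T) (hv1 : v ≠ 1) (hv2 : v * v = 1) (hDv : ∀ d ∈ D, d * v * d⁻¹ = v) :
    Nat.card D + 2 ≤ Nat.card (omegaSq T hS.fac.comm) := by
  classical
  have hcomm := hS.fac.comm
  have hNtop := hS.normalizer_ne_top
  set E := omegaSq T hS.fac.comm with hE
  set N := normalizer (T : Set G) with hN
  have hTN : T ≤ N := le_normalizer
  have hconjT : ∀ g ∈ N, ∀ t ∈ T, g * t * g⁻¹ ∈ T := fun g hg t ht => Crit.conj_mem hg ht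
  have htrans : ∀ v ∈ E, v ≠ 1 → ∀ w ∈ E, w ≠ 1 → ∃ g ∈ N, g * v * g⁻¹ = w :=
    fun v hv hv1 w hw hw1 => hS.exists_conj hv hv1 hw hw1
  haveI : Group.IsSolvable N := hS.small N hNtop _ _ (hS.fac.restrict_of_le hTN)
  letI : CommGroup E :=
    { (inferInstance : Group E) with mul_comm := fun a b => Subtype.ext (hcomm a a.2.1 b b.2.1) }
  letI : Module (ZMod 2) (Additive E) := AddCommGroup.zmodModule fun x => by
    apply Additive.toMul.injective
    rw [toMul_nsmul, toMul_zero, pow_two]
    exact Subtype.ext (Additive.toMul x).2.2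
  have hconjE : ∀ g ∈ N, ∀ x ∈ E, g * x * g⁻¹ ∈ E := fun g hg x hx =>
    ⟨hconjT g hg x hx.1, by
      rw [show g * x * g⁻¹ * (g * x * g⁻¹) = g * (x * x) * g⁻¹ by group, hx.2, mul_one, mul_inv_cancel]⟩
  let cf : N → (Additive E →+ Additive E) := fun g => MonoidHom.toAdditive
    (MonoidHom.mk' (fun x : E => (⟨(g : G) * x * (g : G)⁻¹, hconjE g g.2 x x.2⟩ : E))
      (fun x y => Subtype.ext (by simp [mul_assoc])))
  have hcf : ∀ (g : N) (x : Additive E),
      ((Additive.toMul (cf g x) : E) : G) = (g : G) * (Additive.toMul x : E) * (g : G)⁻¹ :=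
    fun _ _ => rfl
  have hcomp : ∀ (g g' : N) (x : Additive E), cf (g * g') x = cf g (cf g' x) := fun g g' x => by
    apply Additive.toMul.injective
    refine Subtype.ext ?_
    rw [hcf, hcf, hcf, Subgroup.coe_mul]
    group
  have hone : ∀ x : Additive E, cf 1 x = x := fun x => by
    apply Additive.toMul.injective
    refine Subtype.ext ?_
    rw [hcf, OneMemClass.coe_one]
    group
  let ρ : N →* (Additive E ≃ₗ[ZMod 2] Additive E) :=
    { toFun := fun g =>
        { toFun := cf g
          invFun := cf g⁻¹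
          map_add' := map_add (cf g)
          map_smul' := ZMod.map_smul (cf g)
          left_inv := fun x => by rw [← hcomp, inv_mul_cancel, hone]
          right_inv := fun x => by rw [← hcomp, mul_inv_cancel, hone] }
      map_one' := LinearEquiv.ext hone
      map_mul' := fun g g' => LinearEquiv.ext (hcomp g g') }
  haveI : Finite (Additive E) := inferInstanceAs (Finite E)
  haveI : Nontrivial (Additive E) := Finite.one_lt_card_iff_nontrivial.1 (by
    rw [Nat.card_congr Additive.toMul]; omega)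
  haveI : Finite ρ.range := Finite.of_surjective _ ρ.rangeRestrict_surjective
  haveI : Group.IsSolvable ρ.range := Group.isSolvable_of_surjective (f := ρ.rangeRestrict)
    ρ.rangeRestrict_surjective
  have hpt : ∀ x : Additive E, x ≠ 0 → ((Additive.toMul x : E) : G) ≠ 1 := fun x hx h =>
    hx (Additive.toMul.injective (Subtype.ext h))
  rcases Huppert.huppert (inferInstance : Group.IsSolvable ρ.range) ρ.range.subtype
      ρ.range.subtype_injective (fun x y hx hy => by
        obtain ⟨g, hg, hgx⟩ := htrans _ (Additive.toMul x : E).2 (hpt x hx) _ (Additive.toMul y : E).2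
          (hpt y hy)
        exact ⟨⟨ρ ⟨g, hg⟩, ⟨g, hg⟩, rfl⟩, Additive.toMul.injective (Subtype.ext hgx)⟩) with
    ⟨F, iF, iFF, e, hsem⟩ | hbad
  · letI := iF
    letI := iFF
    have hdN : ∀ d : D, (d : G) ∈ N := fun d => hDle d.2
    have hFE : Nat.card F = Nat.card E := by
      rw [← Nat.card_congr e.toEquiv, Nat.card_congr Additive.toMul]
    have hle := card_add_two_le (ι := D) e (by omega) (fun d x => ρ ⟨d, hdN d⟩ x)
      (fun d => hsem ⟨ρ ⟨d, hdN d⟩, ⟨d, hdN d⟩, rfl⟩) (fun d d' hdd => ?_)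
      (v₀ := Additive.ofMul (⟨v, hvT, hv2⟩ : E))
      (fun h => hv1 (congrArg (fun x : Additive E => ((Additive.toMul x : E) : G)) h))
      (fun d => Additive.toMul.injective (Subtype.ext (hDv d d.2)))
    · rwa [hFE] at hle
    · -- faithfulness
      set y := (d' : G)⁻¹ * d with hy
      have hyD : y ∈ D := D.mul_mem (D.inv_mem d'.2) d.2
      have hyN : y ∈ N := N.mul_mem (N.inv_mem (hdN d')) (hdN d)
      have hyE : ∀ x ∈ E, y * x = x * y := by
        intro x hx
        have h1 : (d : G) * x * (d : G)⁻¹ = (d' : G) * x * (d' : G)⁻¹ :=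
          congrArg (fun z : Additive E => ((Additive.toMul z : E) : G))
            (hdd (Additive.ofMul (⟨x, hx⟩ : E)))
        rw [hy]
        calc (d' : G)⁻¹ * d * x = (d' : G)⁻¹ * ((d : G) * x * (d : G)⁻¹) * d := by group
          _ = (d' : G)⁻¹ * ((d' : G) * x * (d' : G)⁻¹) * d := by rw [h1]
          _ = x * ((d' : G)⁻¹ * d) := by group
      have hyodd : Odd (orderOf y) := hDodd.of_dvd_nat (orderOf_dvd_natCard D hyD)
      have hyT := commute_of_omega hS.fac.isP hcomm hyodd (hconjT y hyN) hyE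
      have h1 : y ∈ T := (hS.centralizer_facts hvT hv1).2
        ⟨mem_centralizer_iff.2 fun t ht => (hyT t ht).symm,
          mem_centralizer_singleton_iff.2 (hyT v hvT)⟩
      have h2 : y = 1 := Coprime.eq_one_of_mem_of_mem (coprime_of_isPGroup hS.fac.isP hDodd) h1 hyD
      exact Subtype.ext (inv_mul_eq_one.1 h2).symm
  · rw [Nat.card_congr Additive.toMul] at hbad
    have h2 : orderOf v ∣ Nat.card E := orderOf_dvd_natCard E ⟨hvT, hv2⟩
    rw [orderOf_eq_prime (p := 2) (by rw [pow_two, hv2]) hv1] at h2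
    simp only [Set.mem_insert_iff, Set.mem_singleton_iff] at hbad
    omega

/-- The main contradiction. -/
theorem Crit.absurd_crit (hS : Crit G T H) : False := by
  classical
  have hcomm := hS.fac.comm
  have hq3 := hS.three_le_card
  obtain ⟨w, hww, hwN, hDcard⟩ := hS.exists_twoPoint hq3
  obtain ⟨A, hAD, hA1, hAab, hAw, hAn⟩ := hS.exists_abelian_le hww hwN (by omega)
  set N := normalizer (T : Set G) with hN
  have hconjT : ∀ g ∈ N, ∀ t ∈ T, g * t * g⁻¹ ∈ T := fun g hg t ht => Crit.conj_mem hg ht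
  have hDN : twoPoint T w ≤ N := inf_le_left
  have hAN : A ≤ N := hAD.trans hDN
  have hDodd := hS.odd_twoPoint hww hwN
  obtain ⟨H', hS', hAH⟩ := hS.fac.exists_fac_ge (hDodd.of_dvd_nat (card_dvd_of_le hAD)) hAN
  -- the normalizer of `A`
  set X := normalizer (A : Set G) with hX
  have hXt : ∀ x ∈ X, ∀ t ∈ T, t⁻¹ * x ∈ H' → (∀ a ∈ A, a * t = t * a) ∧ t ∈ X := by
    intro x hx t ht hth
    have hc : ∀ a ∈ A, a * t = t * a := by
      intro a ha
      have hconj : a * t * a⁻¹ ∈ T := hconjT a (hAN ha) t ht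
      have ha' : x⁻¹ * a * x ∈ A := (mem_normalizer_iff''.1 hx a).1 ha
      have h1 : t⁻¹ * (a * x) ∈ H' := by
        have := H'.mul_mem hth (hAH ha')
        rwa [show t⁻¹ * x * (x⁻¹ * a * x) = t⁻¹ * (a * x) by group] at this
      have h2 : (a * t * a⁻¹)⁻¹ * (a * x) ∈ H' := by
        have := H'.mul_mem (hAH ha) hth
        rwa [show (a * t * a⁻¹)⁻¹ * (a * x) = a * (t⁻¹ * x) by group]
      have h3 := hS'.unique hconj h2 ht h1
      exact mul_inv_eq_iff_eq_mul.1 h3
    refine ⟨hc, mem_normalizer_fintype fun a ha => ?_⟩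
    rw [← hc a ha, mul_inv_cancel_right]
    exact ha
  have hFX : Fac X (T.subgroupOf X) (H'.subgroupOf X) :=
    hS'.restrict fun x hx t ht hth => (hXt x hx t ht hth).2
  obtain ⟨v, hvT, hv1, hv2, hvA⟩ : ∃ v ∈ T, v ≠ 1 ∧ v * v = 1 ∧ ∀ a ∈ A, a * v = v * a := by
    set K := T ⊓ centralizer (A : Set G) with hK
    by_cases hK1 : K = ⊥
    · exfalso
      obtain ⟨t, ht, hth⟩ := hS'.decomp w
      have h1 : t ∈ K := ⟨ht, mem_centralizer_iff.2 (hXt w hAw t ht hth).1⟩
      rw [hK1, mem_bot] at h1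
      rw [h1, inv_one, one_mul] at hth
      exact hwN ((eq_one_of_sq_of_odd hS'.odd hth hww) ▸ one_mem _)
    · obtain ⟨v, hv, hvo⟩ := exists_involution_mem (hS.fac.isP.to_le inf_le_left : IsPGroup 2 K) hK1
      exact ⟨v, hv.1, fun h => by rw [h, orderOf_one] at hvo; omega,
        by rw [← pow_two, ← hvo, pow_orderOf_eq_one], mem_centralizer_iff.1 hv.2⟩
  have hXtop : X ≠ ⊤ := by
    intro h
    rcases hS.simple A (normalizer_eq_top_iff.1 h) with e | e
    · exact hA1 e
    · exact hS.nonab fun a b => hAab a (e.symm ▸ mem_top a) b (e.symm ▸ mem_top b)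
  haveI : Group.IsSolvable X := hS.small X hXtop _ _ hFX
  have hvuniq : ∀ z ∈ omegaSq T hS.fac.comm, (∀ a ∈ A, a * z = z * a) → z = 1 ∨ z = v :=
    fun z hz hzA => hS.eq_of_commute hwN hAw inferInstance hFX hvT hv1 hv2 hvA hz hzA
  -- `D` fixes `v`
  have hDv : ∀ d ∈ twoPoint T w, d * v * d⁻¹ = v := by
    intro d hd
    have hdN := hDN hd
    have hsq : d * v * d⁻¹ * (d * v * d⁻¹) = 1 := by
      rw [show d * v * d⁻¹ * (d * v * d⁻¹) = d * (v * v) * d⁻¹ by group, hv2, mul_one, mul_inv_cancel]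
    refine (hvuniq _ ⟨hconjT d hdN v hvT, hsq⟩ fun a ha => ?_).resolve_left
      fun h => hv1 (conj_eq_one_iff.1 h)
    have h1 := hvA _ ((mem_normalizer_iff''.1 (hAn hd) a).1 ha)
    calc a * (d * v * d⁻¹) = d * (d⁻¹ * a * d * v) * d⁻¹ := by group
      _ = d * (v * (d⁻¹ * a * d)) * d⁻¹ := by rw [h1]
      _ = d * v * d⁻¹ * a := by group
  have := hS.card_fix_add_two_le hq3 hDN hDodd hvT hv1 hv2 hDv
  omega

theorem isSolvable_aux : ∀ (n : ℕ) (G : Type u) [Group G] [Finite G], Nat.card G = n →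
    ∀ T H : Subgroup G, Fac G T H → Group.IsSolvable G := by
  intro n
  induction n using Nat.strong_induction_on with
  | _ n ih =>
    intro G _ _ hn T H hF
    by_cases hN : ∃ N : Subgroup G, N.Normal ∧ N ≠ ⊥ ∧ N ≠ ⊤
    · obtain ⟨N, hNn, hb, ht⟩ := hN
      have h1 : Nat.card N < n := hn ▸ lt_of_le_of_ne (card_le_card_group N)
        fun e => ht (eq_top_of_card_eq N e)
      have h2 : Nat.card (G ⧸ N) < n := by
        rw [← hn, card_eq_card_quotient_mul_card_subgroup N]
        exact lt_mul_of_one_lt_right Nat.card_pos (N.one_lt_card_iff_ne_bot.2 hb)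
      exact isSolvable_of_solvable_normal N (ih _ h1 N rfl _ _ (hF.restrict_normal N))
        (ih _ h2 (G ⧸ N) rfl _ _ (hF.quotient N))
    push Not at hN
    by_cases hcomm : ∀ a b : G, a * b = b * a
    · exact Group.isSolvable_of_comm hcomm
    by_cases hT : T = ⊥
    · refine OddOrderTheorem.solvable ?_
      rw [← hF.card_mul, hT, card_bot, one_mul]
      exact hF.odd
    refine (Crit.absurd_crit (G := G) (T := T) (H := H) ⟨hF, fun N hNn => ?_, hcomm, ?_, hT⟩).elim
    · exact (em (N = ⊥)).imp id fun h => hN N hNn h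
    · intro X hX T' H' hF'
      exact ih _ (hn ▸ lt_of_le_of_ne (card_le_card_group X) fun e => hX (eq_top_of_card_eq X e))
        X rfl T' H' hF'

/-- A finite group which is a product of an abelian 2-group and a group of odd order is solvable. -/
theorem isSolvable_of_fac {G : Type u} [Group G] [Finite G] {T H : Subgroup G} (h : Fac G T H) :
    Group.IsSolvable G :=
  isSolvable_aux _ G rfl T H h

end Cfsg.Agent.AbelianTwoFactor
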