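/-
A class of 2-power size with maximal 2-part in a group with abelian Sylow subgroups gives solvability
(owner: helper90).

Main result: `isSolvable_of_classSize`.
-/
import Cfsg.Agent.Lib.AbelianTwoFactor.Main
import Cfsg.Agent.Lib.FunctorControl.Fusion
import Cfsg.Agent.Lib.Transfer.AbelianHall
import Cfsg.Agent.Lib.ClassIndex.PxQ

set_option autoImplicit false
set_option linter.style.haveILetI false

open Subgroup
open scoped commutatorElement

namespace Cfsg.Agent.AbelianTwoFactor

universe u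

variable {G : Type u} [Group G] [Finite G]

/-- A nonsolvable normal subgroup contains a nonsolvable perfect normal subgroup. -/
theorem exists_perfect_normal {K : Subgroup G} [K.Normal] (hK : ¬ Group.IsSolvable K) :
    ∃ L : Subgroup G, L.Normal ∧ L ≤ K ∧ ¬ Group.IsSolvable L ∧ commutator L = ⊤ := by
  obtain ⟨L, ⟨hLn, hLK, hLns⟩, hmin⟩ := exists_minimalFor_of_wellFoundedLT
    (fun X : Subgroup G => X.Normal ∧ X ≤ K ∧ ¬ Group.IsSolvable X) id
    ⟨K, inferInstance, le_rfl, hK⟩
  refine ⟨L, hLn, hLK, hLns, ?_⟩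
  by_contra hne
  haveI := hLn
  have hmap : (commutator L).map L.subtype = ⁅L, L⁆ := Subgroup.map_subtype_commutator L
  have hlt : ¬ L ≤ ⁅L, L⁆ := fun h => hne (eq_top_iff.2 fun z _ => by
    obtain ⟨y, hy, hyz⟩ := (hmap.symm ▸ h z.2 : (z : G) ∈ (commutator L).map L.subtype)
    rwa [← L.subtype_injective hyz])
  have hsol : Group.IsSolvable (⁅L, L⁆ : Subgroup G) := by
    by_contra hns
    exact hlt (hmin ⟨inferInstance, (commutator_le_left L L).trans hLK, hns⟩
      (commutator_le_left L L))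
  haveI : Group.IsSolvable (⁅L, L⁆ : Subgroup G) := hsol
  have h2 : Group.IsSolvable (commutator L) :=
    Group.isSolvable_of_isSolvable_injective
      (f := (L.subtype.comp (commutator L).subtype).codRestrict ⁅L, L⁆
        (fun z => hmap ▸ mem_map_of_mem L.subtype z.2))
      (fun a b hab => Subtype.ext (Subtype.ext (congrArg Subtype.val hab :)))
  refine hLns (isSolvable_of_solvable_normal (commutator L) h2 ?_)
  exact Group.isSolvable_of_comm fun a b => by
    induction a using QuotientGroup.induction_on with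
    | H a => induction b using QuotientGroup.induction_on with
      | H b =>
        rw [← QuotientGroup.mk_mul, ← QuotientGroup.mk_mul, QuotientGroup.eq]
        have : (a * b)⁻¹ * (b * a) = ⁅b⁻¹, a⁻¹⁆ := by rw [commutatorElement_def]; group
        rw [this]
        exact commutator_mem_commutator (mem_top _) (mem_top _)

theorem isSolvable_of_classSize
    (hA : ∀ (p : ℕ) [Fact p.Prime] (P : Sylow p G), IsMulCommutative (P : Subgroup G))
    (a : ℕ) (hmax : ∀ y : G, ¬ 2 ^ (a + 1) ∣ (centralizer ({y} : Set G)).index)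
    {x : G} (hx : (centralizer ({x} : Set G)).index = 2 ^ a) : Group.IsSolvable G := by
  classical
  haveI := Fact.mk Nat.prime_two
  set C := centralizer ({x} : Set G) with hC
  -- a Sylow subgroup of `C` and one of `G`
  obtain ⟨T, hT⟩ := (((default : Sylow 2 C).isPGroup'.map C.subtype)).exists_le_sylow
  have hcomm : ∀ s ∈ (T : Subgroup G), ∀ t ∈ (T : Subgroup G), s * t = t * s := fun s hs t ht =>
    congrArg Subtype.val ((hA 2 T).is_comm.comm ⟨s, hs⟩ ⟨t, ht⟩)
  set T₀ := (T : Subgroup G) ⊓ C with hT₀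
  have hT₀odd : ¬ 2 ∣ T₀.relIndex C := by
    intro hd
    have h1 : ((default : Sylow 2 C) : Subgroup C) ≤ T₀.subgroupOf C := fun q hq =>
      mem_subgroupOf.2 ⟨hT ⟨q, hq, rfl⟩, q.2⟩
    exact (default : Sylow 2 C).not_dvd_index (hd.trans (index_dvd_of_le h1))
  have hT₀p : IsPGroup 2 T₀ := T.isPGroup'.to_le inf_le_left
  obtain ⟨k, hk⟩ := IsPGroup.iff_card.1 hT₀p
  have hCcard : 2 ^ k * T₀.relIndex C = Nat.card C := by
    rw [← hk, ← relIndex_bot_left T₀, ← relIndex_bot_left C]
    exact relIndex_mul_relIndex _ _ _ bot_le inf_le_right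
  have hrel : C.relIndex (T : Subgroup G) = 2 ^ a := by
    have h1 : Nat.card T₀ * C.relIndex (T : Subgroup G) = Nat.card (T : Subgroup G) := by
      rw [← inf_relIndex_right C, inf_comm, ← relIndex_bot_left T₀,
        ← relIndex_bot_left (T : Subgroup G)]
      exact relIndex_mul_relIndex _ _ _ bot_le inf_le_left
    have h2 : Nat.card T₀ * C.relIndex (T : Subgroup G) * (T : Subgroup G).index =
        2 ^ k * T₀.relIndex C * 2 ^ a := by
      rw [h1, hCcard, ← hx, (T : Subgroup G).card_mul_index, C.card_mul_index]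
    rw [hk, mul_assoc, mul_assoc] at h2
    have h3 := Nat.eq_of_mul_eq_mul_left (pow_pos two_pos k) h2
    have h4 : C.relIndex (T : Subgroup G) ∣ Nat.card (T : Subgroup G) := Dvd.intro_left _ h1
    obtain ⟨j, hj⟩ := IsPGroup.iff_card.1 T.isPGroup'
    obtain ⟨i, -, hi⟩ := (Nat.dvd_prime_pow Nat.prime_two).1 (hj ▸ h4)
    refine Nat.dvd_antisymm ((Nat.Coprime.dvd_mul_left ?_).1 (h3 ▸ Dvd.intro _ rfl))
      ((Nat.Coprime.dvd_mul_right ?_).1 (h3.symm ▸ Dvd.intro_left _ rfl))
    · rw [hi]
      exact ((Nat.prime_two.coprime_iff_not_dvd.2 hT₀odd)).pow_left i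
    · exact (Nat.prime_two.coprime_iff_not_dvd.2 T.not_dvd_index).pow_left a
  have hdec : ∀ g : G, ∃ t ∈ (T : Subgroup G), t⁻¹ * g ∈ C := by
    let f : (T : Subgroup G) ⧸ C.subgroupOf (T : Subgroup G) → G ⧸ C := fun q =>
      Quotient.liftOn' q (fun t => ((t : G) : G ⧸ C)) fun s t hst => by
        rw [QuotientGroup.leftRel_apply, mem_subgroupOf] at hst
        exact QuotientGroup.eq.2 hst
    have hf : Function.Injective f := by
      intro p q hpq
      induction p using QuotientGroup.induction_on with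
      | H s => induction q using QuotientGroup.induction_on with
        | H t => exact QuotientGroup.eq.2 (mem_subgroupOf.2 (QuotientGroup.eq.1 hpq :))
    have hb : Function.Bijective f := (Nat.bijective_iff_injective_and_card f).2 ⟨hf, by
      rw [← index_eq_card, ← index_eq_card, hx]; exact hrel⟩
    intro g
    obtain ⟨q, hq⟩ := hb.2 (g : G ⧸ C)
    induction q using QuotientGroup.induction_on with
    | H t => exact ⟨t, t.2, QuotientGroup.eq.1 hq⟩
  set K := C.normalCore with hK
  haveI : K.Normal := C.normalCore_normal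
  have hKC : K ≤ C := C.normalCore_le
  have hT₀K : T₀ ≤ K := by
    rintro q ⟨hqT, hqC⟩ g
    obtain ⟨t, ht, htc⟩ := hdec g⁻¹
    have h1 := C.mul_mem (C.mul_mem (C.inv_mem htc) hqC) htc
    have h2 : t * q * t⁻¹ = q := by rw [hcomm t ht q hqT, mul_inv_cancel_right]
    rwa [show (t⁻¹ * g⁻¹)⁻¹ * q * (t⁻¹ * g⁻¹) = g * (t * q * t⁻¹) * g⁻¹ by group, h2] at h1
  -- the quotient
  have hCimg : Odd (Nat.card (C.map (QuotientGroup.mk' K))) := by
    rw [← Subgroup.relIndex_ker, QuotientGroup.ker_mk', ← Nat.not_even_iff_odd, even_iff_two_dvd]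
    exact fun h => hT₀odd (h.trans (relIndex_dvd_of_le_left C hT₀K))
  have hFac : Fac (G ⧸ K) ((T : Subgroup G).map (QuotientGroup.mk' K))
      (C.map (QuotientGroup.mk' K)) := by
    refine ⟨?_, T.isPGroup'.map _, hCimg, fun q => ?_⟩
    · rintro _ ⟨s, hs, rfl⟩ _ ⟨t, ht, rfl⟩
      rw [← map_mul, hcomm s hs t ht, map_mul]
    · obtain ⟨g, rfl⟩ := QuotientGroup.mk'_surjective K q
      obtain ⟨t, ht, htc⟩ := hdec g
      exact ⟨_, ⟨t, ht, rfl⟩, ⟨_, htc, by rw [map_mul, map_inv]⟩⟩
  refine isSolvable_of_solvable_normal K ?_ (isSolvable_of_fac hFac)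
  -- the core is solvable
  by_contra hKns
  obtain ⟨L, hLn, hLK, hLns, hperf⟩ := exists_perfect_normal hKns
  haveI := hLn
  have hLA : ∀ p : ℕ, p.Prime → ∀ P : Sylow p L, IsMulCommutative P := by
    intro p hp P
    haveI := Fact.mk hp
    obtain ⟨P', hP'⟩ := (P.isPGroup'.map L.subtype).exists_le_sylow
    exact ⟨⟨fun s t => Subtype.ext (Subtype.ext (congrArg Subtype.val ((hA p P').is_comm.comm
      ⟨_, hP' ⟨s, s.2, rfl⟩⟩ ⟨_, hP' ⟨t, t.2, rfl⟩⟩) :))⟩⟩
  have hzc : commutator L ⊓ center L = ⊥ := Transfer.commutator_inf_center_eq_bot hLA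
  rw [hperf, top_inf_eq] at hzc
  have hKxc : ∀ q ∈ K, q * x = x * q := fun q hq => mem_centralizer_singleton_iff.1 (hKC hq)
  have hcover : ∀ z : L, ∃ R : Sylow 2 L, z ∈ centralizer ((R : Subgroup L) : Set L) := by
    intro z
    set D := centralizer ({x * (z : G)} : Set G) with hD
    have hdvd : 2 ^ k ∣ Nat.card D := by
      obtain ⟨j, m, hm, hjm⟩ := Nat.exists_eq_two_pow_mul_odd (n := D.index) index_ne_zero_of_finite
      have hja : j ≤ a := by
        by_contra hlt
        exact hmax (x * (z : G)) (hjm ▸ dvd_mul_of_dvd_left (pow_dvd_pow 2 (by omega)) m)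
      have h1 : 2 ^ k * 2 ^ a ∣ Nat.card D * 2 ^ j := by
        refine (Nat.Coprime.dvd_mul_right ((Nat.coprime_two_left.2 hm).pow_left (k + a))).1 ?_ |>
          fun h => by rwa [← pow_add]
        rw [mul_assoc, ← hjm, D.card_mul_index, ← C.card_mul_index, hx, ← hCcard, pow_add]
        exact ⟨T₀.relIndex C, by ring⟩
      have h2 : 2 ^ k * 2 ^ j ∣ Nat.card D * 2 ^ j :=
        (Nat.mul_dvd_mul_left _ (pow_dvd_pow 2 hja)).trans h1
      exact Nat.dvd_of_mul_dvd_mul_right (pow_pos two_pos j) h2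
    obtain ⟨U₀, hU₀⟩ := Sylow.exists_subgroup_card_pow_prime (G := D) 2 hdvd
    set U := U₀.map D.subtype with hU
    have hUcard : Nat.card U = 2 ^ k := by rw [hU, card_map_of_injective D.subtype_injective, hU₀]
    have hUp : IsPGroup 2 U := IsPGroup.of_card hUcard
    have hfix : ∀ u ∈ U, u * x = x * u ∧ u * (z : G) = (z : G) * u := by
      rintro _ ⟨u, -, rfl⟩
      rw [coe_subtype]
      have hu : (u : G) * (x * z) = x * z * u := mem_centralizer_singleton_iff.1 u.2
      set c := x⁻¹ * ((u : G) * x * (u : G)⁻¹) with hc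
      have hcz : c = (z : G) * ((u : G) * z * (u : G)⁻¹)⁻¹ := by
        rw [hc]
        calc x⁻¹ * ((u : G) * x * (u : G)⁻¹)
            = x⁻¹ * ((u : G) * (x * z)) * (z : G)⁻¹ * (u : G)⁻¹ := by group
          _ = x⁻¹ * (x * z * u) * (z : G)⁻¹ * (u : G)⁻¹ := by rw [hu]
          _ = _ := by group
      have hcL : c ∈ L := hcz ▸ L.mul_mem z.2 (L.inv_mem (hLn.conj_mem _ z.2 u))
      have hcc : ∀ q ∈ K, q * c = c * q := by
        intro q hq
        have h1 : Commute q x := hKxc q hq
        have h2 : Commute q ((u : G) * x * (u : G)⁻¹) := by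
          have h3 := hKxc _ ((inferInstance : K.Normal).conj_mem q hq (u : G)⁻¹)
          rw [inv_inv] at h3
          show q * _ = _ * q
          calc q * ((u : G) * x * (u : G)⁻¹) = u * ((u : G)⁻¹ * q * u * x) * (u : G)⁻¹ := by group
            _ = u * (x * ((u : G)⁻¹ * q * u)) * (u : G)⁻¹ := by rw [h3]
            _ = _ := by group
        exact (h1.inv_right.mul_right h2).eq
      have hc1 : (⟨c, hcL⟩ : L) ∈ center L := mem_center_iff.2 fun q =>
        Subtype.ext (hcc q (hLK q.2))
      rw [hzc, mem_bot] at hc1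
      have hce : c = 1 := congrArg Subtype.val hc1
      constructor
      · rw [hc, inv_mul_eq_one] at hce
        exact mul_inv_eq_iff_eq_mul.1 hce.symm
      · rw [hcz, mul_inv_eq_one] at hce
        exact mul_inv_eq_iff_eq_mul.1 hce.symm
    have hUK : U ≤ K := by
      intro u hu
      rw [← QuotientGroup.eq_one_iff]
      exact Coprime.eq_one_of_mem_of_mem
        (coprime_of_isPGroup (hUp.map (QuotientGroup.mk' K)) hCimg)
        (mem_map_of_mem (QuotientGroup.mk' K) hu)
        (mem_map_of_mem (QuotientGroup.mk' K) (mem_centralizer_singleton_iff.2 (hfix u hu).1))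
    have hUodd : ¬ 2 ∣ U.relIndex K := by
      have h1 : 2 ^ k * U.relIndex K = Nat.card K := by
        rw [← hUcard, ← relIndex_bot_left U, ← relIndex_bot_left K]
        exact relIndex_mul_relIndex _ _ _ bot_le hUK
      have h2 : 2 ^ k * T₀.relIndex K = Nat.card K := by
        rw [← hk, ← relIndex_bot_left T₀, ← relIndex_bot_left K]
        exact relIndex_mul_relIndex _ _ _ bot_le hT₀K
      rw [Nat.eq_of_mul_eq_mul_left (pow_pos two_pos k) (h1.trans h2.symm)]
      exact fun h => hT₀odd (h.trans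
        (relIndex_mul_relIndex T₀ K C hT₀K hKC ▸ Dvd.intro _ rfl))
    have hULd : ¬ 2 ∣ ((U ⊓ L).subgroupOf L).index := by
      have h := FunctorControl.not_dvd_relIndex_inf_in hUp hUK hUodd (K := L) inferInstance
      rwa [inf_eq_right.2 hLK] at h
    refine ⟨((hUp.to_le inf_le_left).comap_subtype).toSylow hULd, mem_centralizer_iff.2 fun u hu => ?_⟩
    exact Subtype.ext (hfix u (mem_subgroupOf.1 hu).1).2
  obtain ⟨P⟩ : Nonempty (Sylow 2 L) := inferInstance
  have htop : centralizer ((P : Subgroup L) : Set L) = ⊤ := by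
    refine ClassIndex.eq_top_of_conj_cover fun z => ?_
    obtain ⟨R, hR⟩ := hcover z
    obtain ⟨g, hg⟩ := MulAction.exists_smul_eq L R P
    refine ⟨g⁻¹, mem_centralizer_iff.2 fun y hy => ?_⟩
    rw [← hg] at hy
    obtain ⟨r, hr, rfl⟩ := hy
    have h1 := mem_centralizer_iff.1 hR r hr
    show g * r * g⁻¹ * (g⁻¹⁻¹ * z * g⁻¹) = g⁻¹⁻¹ * z * g⁻¹ * (g * r * g⁻¹)
    calc g * r * g⁻¹ * (g⁻¹⁻¹ * z * g⁻¹) = g * (r * z) * g⁻¹ := by group
      _ = g * (z * r) * g⁻¹ := by rw [h1]
      _ = _ := by group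
  have hP : (P : Subgroup L) = ⊥ := le_bot_iff.1 (hzc ▸ centralizer_eq_top_iff_subset.1 htop)
  refine hLns (OddOrderTheorem.solvable ?_)
  rw [← Nat.not_even_iff_odd, even_iff_two_dvd]
  intro h2
  have := P.not_dvd_index
  rw [hP, index_bot] at this
  exact this h2

end Cfsg.Agent.AbelianTwoFactor
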